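import Mathlib
import Groth.Agent.CurveResLib.Strict
import Groth.Agent.BlowUpLib.Cartier
import Groth.Agent.CommAlgDim.RegularRing
import Groth.Agent.PtBlowLib.Principal

/-! Regular surfaces and their point blow-ups. -/

set_option autoImplicit false
set_option linter.style.haveILetI false
set_option backward.isDefEq.respectTransparency false
set_option backward.isDefEq.respectTransparency.types false
universe u

open CategoryTheory CategoryTheory.Limits AlgebraicGeometry TopologicalSpace

namespace SncLib

/-- A regular surface. -/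
structure Surf (X : Scheme.{u}) : Prop where
  integral : IsIntegral X
  noeth : IsNoetherian X
  regular : ∀ x : X, IsRegularLocalRing (X.presheaf.stalk x)
  dim : topologicalKrullDim X ≤ 2

theorem spec_regular {A : Type u} [CommRing A] [IsRegularLocalRing A] (p : Spec (CommRingCat.of A)) :
    IsRegularLocalRing ((Spec (CommRingCat.of A)).presheaf.stalk p) := by
  haveI : IsRegularRing A := CommAlgDim.isRegularRing_of_isRegularLocalRing A
  haveI := isRegularRing_iff.1 (inferInstance : IsRegularRing A) p.asIdeal
  exact IsRegularLocalRing.of_ringEquiv (StructureSheaf.stalkIso A p).toRingEquiv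

theorem regular_of_specializes {X : Scheme.{u}} {y z : X} (h : y ⤳ z)
    (hz : IsRegularLocalRing (X.presheaf.stalk z)) : IsRegularLocalRing (X.presheaf.stalk y) := by
  obtain ⟨P, rfl⟩ : y ∈ Set.range (X.fromSpecStalk z) := by
    rw [Scheme.range_fromSpecStalk]
    exact h
  haveI : IsRegularLocalRing ((Spec (X.presheaf.stalk z)).presheaf.stalk P) := spec_regular (A := X.presheaf.stalk z) P
  haveI := AlgSpLib.flat_fromSpecStalk z
  exact IsRegularLocalRing.of_ringEquiv
    (RingEquiv.ofBijective _ (PtBlowLib.bijective_stalkMap_of_flat_preimmersion (X.fromSpecStalk z) P)).symm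

/-- A point of a curve on a surface which is not its generic point has two-dimensional local ring. -/
theorem dim_two_of_curve {X : Scheme.{u}} [IsIntegral X] (hX : Surf X) {Z : Scheme.{u}} [IsIntegral Z] (c : Z ⟶ X)
    [IsClosedImmersion c] (hη : c (genericPoint Z) ≠ genericPoint X) (p : Z)
    (hp : p ≠ genericPoint Z) : ringKrullDim (X.presheaf.stalk (c p)) = 2 := by
  refine le_antisymm ((DimIneqLib.stalk_dim_le_dim _).trans hX.dim) ?_
  have h1 : c p < c (genericPoint Z) := lt_of_le_not_ge ((genericPoint_specializes p).map c.continuous)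
    fun h => hp (c.isClosedEmbedding.injective ((Specializes.antisymm ((genericPoint_specializes p).map c.continuous) h).eq.symm))
  have h2 : c (genericPoint Z) < genericPoint X := lt_of_le_not_ge (genericPoint_specializes _)
    fun h => hη ((Specializes.antisymm h (genericPoint_specializes _)).eq)
  rw [ringKrullDim_stalk_eq_coheight]
  refine WithBot.coe_le_coe.2 ?_
  have := Order.coheight_add_one_le h1
  have h3 := Order.coheight_add_one_le h2
  calc (2 : ℕ∞) = 0 + 1 + 1 := by norm_num
    _ ≤ Order.coheight (genericPoint X) + 1 + 1 := by gcongr; exact bot_le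
    _ ≤ Order.coheight (c (genericPoint Z)) + 1 := by gcongr
    _ ≤ _ := this

theorem isClosed_of_dim_two {X : Scheme.{u}} (hX : Surf X) (x : X) (h : ringKrullDim (X.presheaf.stalk x) = 2) :
    IsClosed ({x} : Set X) :=
  PtBlowLib.isClosed_of_two_le hX.dim x h.ge

theorem Surf.center_ne_generic {X : Scheme.{u}} [IsIntegral X] (_hX : Surf X) {x : X} (hd : ringKrullDim (X.presheaf.stalk x) = 2) :
    x ≠ genericPoint X := by
  intro h
  have h3 : ∀ z : X, z = genericPoint X → ringKrullDim (X.presheaf.stalk z) = 0 := by
    rintro z rfl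
    exact ringKrullDim_eq_zero_of_field X.functionField
  rw [h3 x h] at hd
  exact absurd hd (by norm_num)

/-- The blowing up of a regular surface at a point of dimension two is a regular surface. -/
theorem Surf.blow {X : Scheme.{u}} [IsIntegral X] (hX : Surf X) {x : X} (hx : IsClosed ({x} : Set X))
    (hd : ringKrullDim (X.presheaf.stalk x) = 2) {X₁ : Scheme.{u}} (b : X₁ ⟶ X)
    (hb : BlowUp.IsBlowUp b (Scheme.IdealSheafData.vanishingIdeal ⟨{x}, hx⟩)) :
    ∃ (_ : IsIntegral X₁), Surf X₁ ∧ b (genericPoint X₁) = genericPoint X := by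
  haveI := hX.noeth; haveI := hX.regular x
  let K : X.IdealSheafData := Scheme.IdealSheafData.vanishingIdeal ⟨{x}, hx⟩
  have hKs : (K.support : Set X) = {x} := Scheme.IdealSheafData.coe_support_vanishingIdeal _
  have hK0 : K ≠ ⊥ := fun h => hX.center_ne_generic hd (by
    have h1 : genericPoint X ∈ (K.support : Set X) := by rw [h, Scheme.IdealSheafData.support_bot]; trivial
    exact (Set.mem_singleton_iff.1 (hKs ▸ h1)).symm)
  obtain ⟨hi, hgen, -⟩ := BlowUpLib.isIntegral_of_isBlowUp hb hK0
  haveI := PtBlowLib.isNoetherian_b hx b hb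
  haveI := PtBlowLib.isProper_b hx b hb
  haveI := PtBlowLib.isIso_punct hx b hb
  have hreg : ∀ z : X₁, IsClosed ({z} : Set X₁) → IsRegularLocalRing (X₁.presheaf.stalk z) := fun z hz => by
    by_cases hbz : b z = x
    · exact (PtBlowLib.point_new hx b hb hd z hbz hz).1
    · haveI := hX.regular (b z)
      exact IsRegularLocalRing.of_ringEquiv
        (RingEquiv.ofBijective _ (PtBlowLib.bijective_stalkMap_of_isIso b (PtBlowLib.punct hx) z hbz))
  have hV : ((PtBlowLib.punct hx : X.Opens) : Set X).Nonempty :=
    ⟨genericPoint X, fun h => hX.center_ne_generic hd (Set.mem_singleton_iff.1 h).symm⟩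
  refine ⟨hi, ⟨hi, inferInstance, fun y => ?_, ModifLib.dim_source_le b hV 2 fun s =>
    (DimIneqLib.stalk_dim_le_dim s).trans hX.dim⟩, hgen⟩
  obtain ⟨z, hzy, hz⟩ := (isClosed_closure (s := ({y} : Set X₁))).exists_closed_singleton
    ⟨y, subset_closure rfl⟩
  exact regular_of_specializes (specializes_iff_mem_closure.2 hzy) (hreg z hz)

end SncLib
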