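import Mathlib
import Groth.Agent.SncLib.Base
import Groth.Agent.S1535
import Groth.Agent.GenusZeroLib.PSmooth

/-! Regular curves on a regular surface, under point blow-ups. -/

set_option autoImplicit false
set_option linter.style.haveILetI false
set_option backward.isDefEq.respectTransparency false
set_option backward.isDefEq.respectTransparency.types false
universe u

open CategoryTheory CategoryTheory.Limits AlgebraicGeometry TopologicalSpace

namespace SncLib

/-- Contraction sequences compose on the left. -/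
def CSeq {X' X : Scheme.{u}} (g : X' ⟶ X) : Prop :=
  ∀ {W : Scheme.{u}} (r : X ⟶ W), Models.IsContractionSeq r → Models.IsContractionSeq (g ≫ r)

/-- A regular curve on `X`. -/
structure Cv (X : Scheme.{u}) where
  Z : Scheme.{u}
  c : Z ⟶ X
  integral : IsIntegral Z
  closed : IsClosedImmersion c
  regular : ∀ z : Z, IsRegularLocalRing (Z.presheaf.stalk z)
  dim : topologicalKrullDim Z ≤ 1

attribute [instance] Cv.integral Cv.closed

/-- The image of the generic point. -/
noncomputable def Cv.η {X : Scheme.{u}} (C : Cv X) : X := C.c (genericPoint C.Z)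

theorem Cv.range_eq {X : Scheme.{u}} (C : Cv X) : Set.range C.c = closure ({C.η} : Set X) := by
  rw [show ({C.η} : Set X) = C.c '' {genericPoint C.Z} from (Set.image_singleton (f := C.c)).symm,
    C.c.isClosedEmbedding.closure_image_eq, (genericPoint_spec _).def, Set.image_univ]

theorem Cv.noeth {X : Scheme.{u}} [IsNoetherian X] (C : Cv X) : IsNoetherian C.Z := {
  toIsLocallyNoetherian := LocallyOfFiniteType.isLocallyNoetherian C.c
  toCompactSpace := QuasiCompact.compactSpace_of_compactSpace C.c }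

/-- A curve, not a point, not everything. -/
def Cv.Good {X : Scheme.{u}} (C : Cv X) : Prop :=
  ¬ IsClosed ({C.η} : Set X) ∧ ∀ [IsIntegral X], C.η ≠ genericPoint X

theorem Cv.comap_eff {X : Scheme.{u}} [IsNoetherian X] (C : Cv X) (hC : C.Good) (x : X) (hx : IsClosed ({x} : Set X)) :
    BlowUp.IsEffCartierIdeal ((Scheme.IdealSheafData.vanishingIdeal (⟨{x}, hx⟩ : Closeds X)).comap C.c) := by
  haveI := C.noeth
  refine CurveResLib.isEffCartier_of_regular_at C.dim _ (fun h => hC.1 ?_) fun z _ => C.regular z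
  rw [Scheme.IdealSheafData.support_comap] at h
  have h' : C.c (genericPoint C.Z) ∈
      ((Scheme.IdealSheafData.vanishingIdeal (⟨{x}, hx⟩ : Closeds X)).support : Set X) := h
  rw [Scheme.IdealSheafData.coe_support_vanishingIdeal] at h'
  rw [show C.η = x from Set.mem_singleton_iff.1 h']
  exact hx

/-- One blowing up, the strict transforms and the exceptional curve. -/
theorem blow {X : Scheme.{u}} [IsIntegral X] (hX : Surf X) {ι : Type} (C : ι → Cv X) (hC : ∀ i, (C i).Good) (x : X)
    (hd : ringKrullDim (X.presheaf.stalk x) = 2) :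
    ∃ (hx : IsClosed ({x} : Set X)) (X₁ : Scheme.{u}) (b : X₁ ⟶ X)
      (_ : BlowUp.IsBlowUp b (Scheme.IdealSheafData.vanishingIdeal ⟨{x}, hx⟩)) (_ : IsIntegral X₁)
      (c₁ : ∀ i, (C i).Z ⟶ X₁) (_ : ∀ i, IsClosedImmersion (c₁ i)) (E : Cv X₁),
      Surf X₁ ∧ b (genericPoint X₁) = genericPoint X ∧ CSeq b ∧ (∀ i, c₁ i ≫ b = (C i).c) ∧
        Set.range E.c = b ⁻¹' {x} ∧
        E.c.ker = (Scheme.IdealSheafData.vanishingIdeal (⟨{x}, hx⟩ : Closeds X)).comap b ∧
        E.Good ∧ IsIso (b ∣_ PtBlowLib.punct hx) ∧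
        ∀ i, ¬ IsClosed ({c₁ i (genericPoint (C i).Z)} : Set X₁) ∧ c₁ i (genericPoint (C i).Z) ≠ genericPoint X₁ ∧
          c₁ i (genericPoint (C i).Z) ≠ E.η := by
  have hx := isClosed_of_dim_two hX x hd
  haveI := hX.noeth; haveI := hX.regular x
  obtain ⟨X₁, b, hb⟩ := Groth.Agent.S8859.result X (Scheme.IdealSheafData.vanishingIdeal ⟨{x}, hx⟩)
  obtain ⟨hi, hX₁, hgen⟩ := hX.blow hx hd b hb
  haveI := hi
  haveI := hX₁.noeth
  haveI := PtBlowLib.isProper_b hx b hb
  have hlift : ∀ i, ∃ c₁ : (C i).Z ⟶ X₁, c₁ ≫ b = (C i).c ∧ IsClosedImmersion c₁ := fun i => by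
    have hE := (C i).comap_eff (hC i) x hx
    obtain ⟨c₁, hc₁, -⟩ := hb.2 _ (C i).c hE
    exact ⟨c₁, hc₁, BlowUpLib.isClosedImmersion_map hb (C i).c (CurveResLib.isBlowUp_id hE) c₁ (by rw [hc₁, Category.id_comp])⟩
  choose c₁ hc₁ hcl using hlift
  obtain ⟨k, hk, e, -⟩ := PtBlowLib.exc_data hx b hb hd
  letI := hk
  let J := (Scheme.IdealSheafData.vanishingIdeal (⟨{x}, hx⟩ : Closeds X)).comap b
  haveI : IsIntegral (CohB1.ProjSpace 1 k) := GenusZeroLib.isIntegral_projSpace k 1
  haveI : Nonempty J.subscheme := ⟨e.hom (genericPoint (CohB1.ProjSpace 1 k))⟩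
  haveI : IsIntegral J.subscheme := isIntegral_of_isOpenImmersion e.inv
  have hJd : topologicalKrullDim J.subscheme = 1 :=
    (IsHomeomorph.topologicalKrullDim_eq _ e.symm.hom.homeomorph.isHomeomorph).trans (GenusZeroLib.dim_projSpace k 1)
  haveI : IsNoetherian J.subscheme := {
    toIsLocallyNoetherian := LocallyOfFiniteType.isLocallyNoetherian J.subschemeι
    toCompactSpace := QuasiCompact.compactSpace_of_compactSpace J.subschemeι }
  have hJreg : ∀ z : J.subscheme, IsRegularLocalRing (J.subscheme.presheaf.stalk z) := fun z => by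
    letI : (CohB1.ProjSpace 1 k).Over (Spec (CommRingCat.of k)) := ⟨CohB1.ProjSpace.toSpec 1 k⟩
    haveI : Smooth (CohB1.ProjSpace 1 k ↘ Spec (CommRingCat.of k)) := GenusZeroLib.smooth_toSpec 1 k
    haveI := Groth.Agent.S1535.result k (CohB1.ProjSpace 1 k) (e.inv z)
    exact IsRegularLocalRing.of_ringEquiv (asIso (e.inv.stalkMap z)).commRingCatIsoToRingEquiv
  let E : Cv X₁ := ⟨J.subscheme, J.subschemeι, inferInstance, inferInstance, hJreg, hJd.le⟩
  have hrange : Set.range E.c = b ⁻¹' {x} := by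
    ext z
    show z ∈ Set.range J.subschemeι ↔ _
    rw [Scheme.IdealSheafData.range_subschemeι]
    exact PtBlowLib.mem_support_exc hx b z
  have hbE : b E.η = x := (Set.ext_iff.1 hrange _).1 ⟨_, rfl⟩
  have hEη : E.η ≠ genericPoint X₁ := fun h => hX.center_ne_generic hd (by rw [← hbE, h, hgen])
  have hEc : ¬ IsClosed ({E.η} : Set X₁) := fun h => by
    have hc : IsClosed ({genericPoint J.subscheme} : Set J.subscheme) := by
      have : ({genericPoint J.subscheme} : Set J.subscheme) = J.subschemeι ⁻¹' {E.η} := by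
        rw [show ({E.η} : Set X₁) = J.subschemeι '' {genericPoint J.subscheme} from (Set.image_singleton (f := J.subschemeι)).symm]
        exact (J.subschemeι.isEmbedding.injective.preimage_image _).symm
      rw [this]
      exact h.preimage J.subschemeι.continuous
    exact CurveResLib.generic_not_closed (𝟙 J.subscheme) ⊤ ⟨genericPoint J.subscheme, trivial⟩ hJd hc
  refine ⟨hx, X₁, b, hb, hi, c₁, hcl, E, hX₁, hgen,
    fun r hr => PtBlowLib.contractionSeq_comp hx b hb hd r hr, hc₁, hrange, J.ker_subschemeι, ⟨hEc, fun {_} => hEη⟩,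
    PtBlowLib.isIso_punct hx b hb, fun i => ?_⟩
  have hbc : b (c₁ i (genericPoint (C i).Z)) = (C i).η := congrArg (fun m : (C i).Z ⟶ X => m (genericPoint (C i).Z)) (hc₁ i)
  refine ⟨fun h => (hC i).1 ?_, fun h => (hC i).2 ?_, fun h => (hC i).1 ?_⟩
  · rw [← hbc, ← Set.image_singleton]
    exact b.isClosedMap _ h
  · rw [← hbc, h, hgen]
  · rw [← hbc, h, hbE]
    exact hx

end SncLib
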