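import Mathlib
import Groth.Agent.SncLib.Curves
import Groth.Agent.DiagTorLib.Geom

/-! Contact of finitely many curves. -/

set_option autoImplicit false
set_option linter.style.haveILetI false
set_option linter.unusedSectionVars false
set_option backward.isDefEq.respectTransparency false
set_option backward.isDefEq.respectTransparency.types false
universe u

open CategoryTheory CategoryTheory.Limits AlgebraicGeometry TopologicalSpace

namespace SncLib

open PtBlowLib (colen)

theorem colen_comap_closed {Z X : Scheme.{u}} (c : Z ⟶ X) [IsClosedImmersion c] (J : X.IdealSheafData) (z : Z) :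
    colen (J.comap c) z = colen (c.ker ⊔ J) (c z) := by
  let φ := (c.stalkMap z).hom
  let ψ := (Ideal.Quotient.mk (IntMult.stalkIdeal (J.comap c) z)).comp φ
  have hψ : Function.Surjective ψ := Ideal.Quotient.mk_surjective.comp (c.stalkMap_surjective z)
  have hker : RingHom.ker ψ = IntMult.stalkIdeal (c.ker ⊔ J) (c z) := by
    rw [← RingHom.comap_ker, Ideal.mk_ker, DivDescLib.stalkIdeal_comap,
      Ideal.comap_map_of_surjective _ (c.stalkMap_surjective z), ← RingHom.ker_eq_comap_bot,
      IntTensorLib.ker_stalkMap_eq_stalkIdeal c z, DiagTorLib.stalkIdeal_sup, sup_comm]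
  exact LenInsepLib.length_eq_of_ringEquiv ((Ideal.quotEquivOfEq hker.symm).trans
    (RingHom.quotientKerEquivOfSurjective hψ)) |>.symm

/-- The excess of contact of `B` along `A`. -/
noncomputable def term {X : Scheme.{u}} (A B : Cv X) : ℕ :=
  ∑ᶠ z : A.Z, ((colen (B.c.ker.comap A.c) z).toNat - 1)

/-- A finite family of distinct curves on a regular surface. -/
structure Fam (X : Scheme.{u}) (n : ℕ) where
  C : Fin n → Cv X
  good : ∀ i, (C i).Good
  inj : Function.Injective fun i => (C i).η

namespace Fam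

variable {X : Scheme.{u}} [IsNoetherian X] {n : ℕ} (F : Fam X n)

/-- The trace of the `j`-th curve on the `i`-th. -/
noncomputable def D (i j : Fin n) : (F.C i).Z.IdealSheafData := (F.C j).c.ker.comap (F.C i).c

theorem mem_D (i j : Fin n) (z : (F.C i).Z) :
    z ∈ ((F.D i j).support : Set (F.C i).Z) ↔ (F.C i).c z ∈ Set.range (F.C j).c := by
  rw [D, Scheme.IdealSheafData.support_comap]
  show (F.C i).c z ∈ ((F.C j).c.ker.support : Set X) ↔ _
  rw [Scheme.Hom.support_ker, (F.C j).c.isClosedEmbedding.isClosed_range.closure_eq]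

theorem not_generic {i j : Fin n} (h : i ≠ j) : genericPoint (F.C i).Z ∉ ((F.D i j).support : Set (F.C i).Z) := by
  rw [mem_D]
  rintro ⟨z, hz⟩
  by_cases hzη : z = genericPoint (F.C j).Z
  · subst hzη
    exact h (F.inj hz.symm)
  · refine (F.good i).1 ?_
    rw [show (F.C i).η = (F.C j).c z from hz.symm, ← Set.image_singleton]
    exact (F.C j).c.isClosedEmbedding.isClosedMap _ (CurveResLib.isClosed_point_of_dim_le_one (F.C j).dim z hzη)

theorem finite {i j : Fin n} (h : i ≠ j) : ((F.D i j).support : Set (F.C i).Z).Finite :=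
  haveI := (F.C i).noeth
  (CurveResLib.finite_support_of_not_generic (F.C i).dim _ (F.not_generic h)).1

theorem closed {i j : Fin n} (h : i ≠ j) : ∀ z ∈ ((F.D i j).support : Set (F.C i).Z), IsClosed ({z} : Set (F.C i).Z) :=
  haveI := (F.C i).noeth
  (CurveResLib.finite_support_of_not_generic (F.C i).dim _ (F.not_generic h)).2

theorem colen_ne_top {i j : Fin n} (h : i ≠ j) (z : (F.C i).Z) : colen (F.D i j) z ≠ ⊤ :=
  haveI := (F.C i).noeth
  PtBlowLib.colen_ne_top _ z fun y hy hyz => (Set.mem_singleton_iff.1 (hyz.mem_closed (F.closed h y hy) rfl)).symm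

open Classical in
/-- The tangency excess. -/
noncomputable def tang : ℕ :=
  ∑ q : Fin n × Fin n, if q.1 ≠ q.2 then term (F.C q.1) (F.C q.2) else 0

theorem term_eq {i j : Fin n} (h : i ≠ j) :
    term (F.C i) (F.C j) = ∑ z ∈ (F.finite h).toFinset, ((colen (F.D i j) z).toNat - 1) := by
  refine finsum_eq_sum_of_support_subset _ fun z hz => ?_
  rw [Set.Finite.coe_toFinset]
  by_contra hc
  refine hz ?_
  have h1 : IntMult.stalkIdeal (F.D i j) z = ⊤ := of_not_not fun h' => hc ((SDivLib.mem_support_iff_stalk _ z).2 h')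
  show (colen (F.D i j) z).toNat - 1 = 0
  rw [colen, Module.length_eq_zero_iff.2 (Ideal.Quotient.subsingleton_iff.2 h1)]
  rfl

theorem tang_eq_zero_iff : F.tang = 0 ↔ ∀ i j, i ≠ j → ∀ z, colen (F.D i j) z ≤ 1 := by
  classical
  rw [tang, Finset.sum_eq_zero_iff]
  refine ⟨fun h i j hij z => ?_, fun h q _ => ?_⟩
  · have h1 := h (i, j) (Finset.mem_univ _)
    rw [if_pos hij, F.term_eq hij, Finset.sum_eq_zero_iff] at h1
    obtain ⟨m, hm⟩ := ENat.ne_top_iff_exists.1 (F.colen_ne_top hij z)
    by_cases hz : z ∈ ((F.D i j).support : Set (F.C i).Z)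
    · have h2 := h1 z ((F.finite hij).mem_toFinset.2 hz)
      simp only [← hm, ENat.toNat_natCast] at h2
      rw [← hm]
      exact_mod_cast (show m ≤ 1 by omega)
    · have : IntMult.stalkIdeal (F.D i j) z = ⊤ := of_not_not fun hc => hz ((SDivLib.mem_support_iff_stalk _ z).2 hc)
      rw [colen, Module.length_eq_zero_iff.2 (Ideal.Quotient.subsingleton_iff.2 this)]
      exact zero_le_one
  · by_cases hq : q.1 ≠ q.2
    · rw [if_pos hq, F.term_eq hq, Finset.sum_eq_zero_iff]
      intro z _
      obtain ⟨m, hm⟩ := ENat.ne_top_iff_exists.1 (F.colen_ne_top hq z)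
      have h2 := h q.1 q.2 hq z
      rw [← hm] at h2 ⊢
      have h3 : m ≤ 1 := by exact_mod_cast h2
      simp only [ENat.toNat_natCast]
      omega
    · rw [if_neg hq]

/-- The points on at least three of the curves. -/
def triples : Set X :=
  {x | ∃ i j l, i ≠ j ∧ i ≠ l ∧ j ≠ l ∧ x ∈ Set.range (F.C i).c ∧ x ∈ Set.range (F.C j).c ∧ x ∈ Set.range (F.C l).c}

theorem finite_triples : F.triples.Finite := by
  classical
  refine (Set.finite_iUnion fun q : {q : Fin n × Fin n // q.1 ≠ q.2} =>
    (F.finite q.2).image (F.C q.1.1).c).subset ?_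
  rintro x ⟨i, j, l, hij, -, -, ⟨z, rfl⟩, hj, -⟩
  exact Set.mem_iUnion.2 ⟨⟨(i, j), hij⟩, z, (F.mem_D i j z).2 hj, rfl⟩

/-- The union of the curves. -/
def union : Set X := ⋃ i, Set.range (F.C i).c

end Fam

end SncLib
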