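import Mathlib
import Groth.Agent.SncLib.Measure

/-! Effect of one blowing up on the contact of curves. -/

set_option autoImplicit false
set_option linter.style.haveILetI false
set_option linter.unusedSectionVars false
set_option maxHeartbeats 1000000
set_option backward.isDefEq.respectTransparency false
set_option backward.isDefEq.respectTransparency.types false
universe u

open CategoryTheory CategoryTheory.Limits AlgebraicGeometry TopologicalSpace

namespace SncLib

open PtBlowLib (colen)

theorem colen_le_of_le {Z : Scheme.{u}} {D D' : Z.IdealSheafData} (h : D ≤ D') (z : Z) : colen D' z ≤ colen D z := by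
  rw [colen, colen, ← PtBlowLib.length_quot, ← PtBlowLib.length_quot]
  exact Module.length_le_of_surjective (Submodule.factor (PtBlowLib.stalkIdeal_mono h z)) (Submodule.factor_surjective _)

theorem colen_lt_of_le_mul {Z : Scheme.{u}} [IsIntegral Z] [IsNoetherian Z] {D D' K : Z.IdealSheafData}
    (h : D ≤ D' * K) (hgen : genericPoint Z ∉ (D.support : Set Z)) {p : Z} (hp : p ∈ (K.support : Set Z))
    (hne : colen D p ≠ ⊤) : colen D' p < colen D p := by
  have hst : IntMult.stalkIdeal D p ≤ IntMult.stalkIdeal D' p * IntMult.stalkIdeal K p := by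
    rw [← SDivLib.stalkIdeal_mul]
    exact PtBlowLib.stalkIdeal_mono h p
  have hpK : IntMult.stalkIdeal K p ≠ ⊤ := (SDivLib.mem_support_iff_stalk K p).1 hp
  have hlt : IntMult.stalkIdeal D p < IntMult.stalkIdeal D' p := by
    refine lt_of_le_of_ne (hst.trans Ideal.mul_le_left) fun e => ?_
    have h0 : IntMult.stalkIdeal D p ≤ IntMult.stalkIdeal D p * IsLocalRing.maximalIdeal _ :=
      (e ▸ hst : IntMult.stalkIdeal D p ≤ IntMult.stalkIdeal D p * IntMult.stalkIdeal K p).trans
        (Ideal.mul_mono le_rfl (IsLocalRing.le_maximalIdeal hpK))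
    exact CurveResLib.stalkIdeal_ne_bot D hgen p
      (Submodule.eq_bot_of_le_smul_of_le_jacobson_bot (IsLocalRing.maximalIdeal _) _ (IsNoetherian.noetherian _)
        (by rwa [Ideal.smul_eq_mul, mul_comm]) (IsLocalRing.maximalIdeal_le_jacobson _))
  rw [colen, ← PtBlowLib.length_quot, Module.length_quotient] at hne
  rw [colen, colen, ← PtBlowLib.length_quot, ← PtBlowLib.length_quot, Module.length_quotient, Module.length_quotient]
  exact Order.coheight_strictAnti hlt ((Order.coheight_anti hlt.le).trans_lt hne.lt_top)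

theorem colen_lt_of_le_mul' {Z : Scheme.{u}} [IsIntegral Z] [IsLocallyNoetherian Z] {D D' K : Z.IdealSheafData}
    (h : D ≤ D' * K) (hgen : genericPoint Z ∉ (D.support : Set Z)) {p : Z} (hp : p ∈ (K.support : Set Z))
    (hne : colen D p ≠ ⊤) : colen D' p < colen D p := by
  have hst : IntMult.stalkIdeal D p ≤ IntMult.stalkIdeal D' p * IntMult.stalkIdeal K p := by
    rw [← SDivLib.stalkIdeal_mul]
    exact PtBlowLib.stalkIdeal_mono h p
  have hpK : IntMult.stalkIdeal K p ≠ ⊤ := (SDivLib.mem_support_iff_stalk K p).1 hp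
  have hlt : IntMult.stalkIdeal D p < IntMult.stalkIdeal D' p := by
    refine lt_of_le_of_ne (hst.trans Ideal.mul_le_left) fun e => ?_
    have h0 : IntMult.stalkIdeal D p ≤ IntMult.stalkIdeal D p * IsLocalRing.maximalIdeal _ :=
      (e ▸ hst : IntMult.stalkIdeal D p ≤ IntMult.stalkIdeal D p * IntMult.stalkIdeal K p).trans
        (Ideal.mul_mono le_rfl (IsLocalRing.le_maximalIdeal hpK))
    exact CurveResLib.stalkIdeal_ne_bot D hgen p
      (Submodule.eq_bot_of_le_smul_of_le_jacobson_bot (IsLocalRing.maximalIdeal _) _ (IsNoetherian.noetherian _)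
        (by rwa [Ideal.smul_eq_mul, mul_comm]) (IsLocalRing.maximalIdeal_le_jacobson _))
  rw [colen, ← PtBlowLib.length_quot, Module.length_quotient] at hne
  rw [colen, colen, ← PtBlowLib.length_quot, ← PtBlowLib.length_quot, Module.length_quotient, Module.length_quotient]
  exact Order.coheight_strictAnti hlt ((Order.coheight_anti hlt.le).trans_lt hne.lt_top)

theorem colen_point {Z : Scheme.{u}} (p : Z) (hp : IsClosed ({p} : Set Z)) (z : Z) :
    colen (Scheme.IdealSheafData.vanishingIdeal ⟨{p}, hp⟩) z ≤ 1 := by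
  by_cases h : z = p
  · subst h
    rw [colen, PtBlowLib.stalkIdeal_vanishing_point z hp]
    letI : Field (↑(Z.presheaf.stalk z) ⧸ IsLocalRing.maximalIdeal (Z.presheaf.stalk z)) := Ideal.Quotient.field _
    exact le_of_eq (Module.length_eq_one_iff.2 inferInstance)
  · have h1 : IntMult.stalkIdeal (Scheme.IdealSheafData.vanishingIdeal (⟨{p}, hp⟩ : Closeds Z)) z = ⊤ :=
      of_not_not fun hc => h (by
        have := (SDivLib.mem_support_iff_stalk _ z).2 hc
        rwa [← SetLike.mem_coe, Scheme.IdealSheafData.coe_support_vanishingIdeal] at this)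
    rw [colen, Module.length_eq_zero_iff.2 (Ideal.Quotient.subsingleton_iff.2 h1)]
    exact zero_le_one

/-- One blowing up of a configuration. -/
theorem Fam.blow {X : Scheme.{u}} [IsIntegral X] [IsNoetherian X] (hX : Surf X) {n : ℕ} (F : Fam X n) (x : X)
    (hd : ringKrullDim (X.presheaf.stalk x) = 2) (hxu : x ∈ F.union) :
    ∃ (X₁ : Scheme.{u}) (b : X₁ ⟶ X) (_ : IsIntegral X₁) (_ : IsNoetherian X₁) (G : Fam X₁ (n + 1)),
      Surf X₁ ∧ CSeq b ∧ b (genericPoint X₁) = genericPoint X ∧
      (∀ D : X.IdealSheafData, BlowUp.IsEffCartierIdeal D → BlowUp.IsEffCartierIdeal (D.comap b)) ∧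
      G.union = b ⁻¹' F.union ∧ G.tang ≤ F.tang ∧
      ((∃ i j, i ≠ j ∧ ∃ z, (F.C i).c z = x ∧ 2 ≤ colen (F.D i j) z) → G.tang < F.tang) ∧
      (F.tang = 0 → x ∈ F.triples → G.triples.ncard < F.triples.ncard) ∧
      (∀ w, b w ≠ x → Function.Bijective (b.stalkMap w)) ∧ Set.InjOn b {w | b w ≠ x} := by
  classical
  obtain ⟨hx, X₁, b, hb, hi, c₁, hcl, E, hX₁, hgen, hseq, hc₁, hrE, hkE, hE, hiso, hnew⟩ := SncLib.blow hX F.C F.good x hd
  haveI := hi
  haveI := hX₁.noeth
  haveI := hcl
  haveI := hiso
  let old : Fin n → Cv X₁ := fun i => ⟨(F.C i).Z, c₁ i, (F.C i).integral, hcl i, (F.C i).regular, (F.C i).dim⟩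
  have hb₁ : ∀ i, b (old i).η = (F.C i).η := fun i =>
    congrArg (fun m : (F.C i).Z ⟶ X => m (genericPoint (F.C i).Z)) (hc₁ i)
  let G : Fam X₁ (n + 1) :=
    { C := Fin.snoc old E
      good := fun i => by
        induction i using Fin.lastCases with
        | last => rw [Fin.snoc_last]; exact hE
        | cast i => rw [Fin.snoc_castSucc]; exact ⟨(hnew i).1, fun {_} => (hnew i).2.1⟩
      inj := by
        intro i j h
        induction i using Fin.lastCases with
        | last =>
          induction j using Fin.lastCases with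
          | last => rfl
          | cast j =>
            simp only [Fin.snoc_last, Fin.snoc_castSucc] at h
            exact absurd h.symm (hnew j).2.2
        | cast i =>
          induction j using Fin.lastCases with
          | last =>
            simp only [Fin.snoc_last, Fin.snoc_castSucc] at h
            exact absurd h (hnew i).2.2
          | cast j =>
            simp only [Fin.snoc_castSucc] at h
            exact congrArg Fin.castSucc (F.inj ((hb₁ i).symm.trans ((congrArg b h).trans (hb₁ j)))) }
  let K := Scheme.IdealSheafData.vanishingIdeal (⟨{x}, hx⟩ : Closeds X)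
  have hKs : ∀ i (z : (F.C i).Z), z ∈ ((K.comap (F.C i).c).support : Set (F.C i).Z) ↔ (F.C i).c z = x := fun i z => by
    rw [Scheme.IdealSheafData.support_comap]
    show (F.C i).c z ∈ (K.support : Set X) ↔ _
    rw [Scheme.IdealSheafData.coe_support_vanishingIdeal]
    exact Set.mem_singleton_iff
  have hinj := PtBlowLib.injOn_of_isIso b (PtBlowLib.punct hx)
  have hbE : ∀ y, y ∈ Set.range E.c ↔ b y = x := fun y => by rw [hrE]; exact Iff.rfl
  -- old against old
  have hmul : ∀ i j, x ∈ Set.range (F.C j).c →
      (F.C j).c.ker.comap (F.C i).c ≤ (c₁ j).ker.comap (c₁ i) * K.comap (F.C i).c := fun i j hj => by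
    have hdK : (F.C j).c.ker ≤ K := by
      refine Scheme.IdealSheafData.le_support_iff_le_vanishingIdeal.1 ?_
      rw [← SetLike.coe_subset_coe]
      refine Set.singleton_subset_iff.2 ?_
      rw [Scheme.Hom.support_ker]
      exact subset_closure hj
    obtain ⟨M, hM, hMeq⟩ := CurveResLib.exists_split_curve b K hb.1 (F.C j).c hdK (c₁ j) (hc₁ j)
      ((F.C j).comap_eff (F.good j) x hx)
    rw [← hc₁ i, Scheme.IdealSheafData.comap_comp, hMeq, BlowUpLib.comap_mul, ← Scheme.IdealSheafData.comap_comp]
    intro U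
    rw [Scheme.IdealSheafData.ideal_mul, Scheme.IdealSheafData.ideal_mul, Pi.mul_apply, Pi.mul_apply]
    exact Ideal.mul_mono (Scheme.IdealSheafData.comap_mono _ hM U) le_rfl
  have hmono : ∀ i j, (F.C j).c.ker.comap (F.C i).c ≤ (c₁ j).ker.comap (c₁ i) := fun i j => by
    rw [← hc₁ i, Scheme.IdealSheafData.comap_comp]
    refine Scheme.IdealSheafData.comap_mono _ ?_
    rw [← Scheme.IdealSheafData.le_map_iff_comap_le, Scheme.IdealSheafData.map_ker, hc₁]
  have hterm : ∀ i j, i ≠ j → term (old i) (old j) ≤ term (F.C i) (F.C j) ∧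
      ((∃ z, (F.C i).c z = x ∧ 2 ≤ colen (F.D i j) z) → term (old i) (old j) < term (F.C i) (F.C j)) := by
    intro i j hij
    haveI := (F.C i).noeth
    have hne' : (Fin.castSucc i) ≠ Fin.castSucc j := fun h => hij (Fin.castSucc_injective n h)
    have hsub : Function.support (fun z : (F.C i).Z => (colen ((c₁ j).ker.comap (c₁ i)) z).toNat - 1) ⊆
        (F.finite hij).toFinset := fun z hz => by
      rw [Set.Finite.coe_toFinset]
      refine (SDivLib.mem_support_iff_stalk _ z).2 fun htop => hz ?_
      show (colen ((c₁ j).ker.comap (c₁ i)) z).toNat - 1 = 0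
      have h0 : colen (F.D i j) z = 0 := by
        rw [colen, Module.length_eq_zero_iff.2 (Ideal.Quotient.subsingleton_iff.2 htop)]
      have h1 := (colen_le_of_le (hmono i j) z).trans h0.le
      rw [nonpos_iff_eq_zero.1 h1]
      rfl
    have hpt : ∀ z, (colen ((c₁ j).ker.comap (c₁ i)) z).toNat ≤ (colen (F.D i j) z).toNat := fun z =>
      ENat.toNat_le_toNat (colen_le_of_le (hmono i j) z) (F.colen_ne_top hij z)
    rw [F.term_eq hij, show term (old i) (old j) = _ from finsum_eq_sum_of_support_subset _ hsub]
    refine ⟨Finset.sum_le_sum fun z _ => Nat.sub_le_sub_right (hpt z) 1, ?_⟩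
    rintro ⟨z, hz, h2⟩
    have hj : x ∈ Set.range (F.C j).c := by
      rw [← hz, ← F.mem_D i j z]
      refine (SDivLib.mem_support_iff_stalk _ z).2 fun htop => ?_
      rw [colen, Module.length_eq_zero_iff.2 (Ideal.Quotient.subsingleton_iff.2 htop)] at h2
      exact absurd h2 (by norm_num)
    have hlt : colen ((c₁ j).ker.comap (c₁ i)) z < colen (F.D i j) z :=
      colen_lt_of_le_mul (hmul i j hj) (F.not_generic hij) ((hKs i z).2 hz) (F.colen_ne_top hij z)
    refine Finset.sum_lt_sum (fun z _ => Nat.sub_le_sub_right (hpt z) 1) ⟨z, (F.finite hij).mem_toFinset.2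
      ((F.mem_D i j z).2 (hz ▸ hj)), ?_⟩
    obtain ⟨m, hm⟩ := ENat.ne_top_iff_exists.1 (F.colen_ne_top hij z)
    obtain ⟨m', hm'⟩ := ENat.ne_top_iff_exists.1 (ne_top_of_lt hlt)
    rw [← hm, ← hm'] at hlt
    rw [← hm] at h2
    rw [← hm, ← hm', ENat.toNat_natCast, ENat.toNat_natCast]
    have h3 : m' < m := by exact_mod_cast hlt
    have h4 : 2 ≤ m := by exact_mod_cast h2
    omega
  -- the exceptional curve against the others
  have hEone : ∀ i z, colen (E.c.ker.comap (c₁ i)) z ≤ 1 := fun i z => by
    rw [hkE, ← Scheme.IdealSheafData.comap_comp, hc₁]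
    by_cases hxi : x ∈ Set.range (F.C i).c
    · obtain ⟨p, rfl⟩ := hxi
      have hp : IsClosed ({p} : Set (F.C i).Z) := by
        rw [← (F.C i).c.isClosedEmbedding.injective.preimage_image {p}, Set.image_singleton]
        exact hx.preimage (F.C i).c.continuous
      rw [CurveResLib.comap_point (F.C i).c p hp hx]
      exact colen_point p hp z
    · have h1 : IntMult.stalkIdeal (K.comap (F.C i).c) z = ⊤ := of_not_not fun hc =>
        hxi ⟨z, (hKs i z).1 ((SDivLib.mem_support_iff_stalk _ z).2 hc)⟩
      rw [colen, Module.length_eq_zero_iff.2 (Ideal.Quotient.subsingleton_iff.2 h1)]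
      exact zero_le_one
  have hterm0 : ∀ (A B : Cv X₁), (∀ z, colen (B.c.ker.comap A.c) z ≤ 1) → term A B = 0 := fun A B h =>
    finsum_eq_zero_of_forall_eq_zero fun z => by
      have h1 := ENat.toNat_le_toNat (h z) ENat.one_ne_top
      rw [ENat.toNat_one] at h1
      omega
  have hE1 : ∀ i, term (old i) E = 0 := fun i => hterm0 _ _ (hEone i)
  have hE2 : ∀ i, term E (old i) = 0 := fun i => hterm0 _ _ fun z => by
    rw [colen_comap_closed]
    by_cases hz : E.c z ∈ Set.range (c₁ i)
    · obtain ⟨w, hw⟩ := hz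
      rw [← hw, sup_comm]
      exact (colen_comap_closed (c₁ i) E.c.ker w).symm.trans_le (hEone i w)
    · have h1 : IntMult.stalkIdeal ((E.c).ker ⊔ (old i).c.ker) (E.c z) = ⊤ := of_not_not fun hc => hz (by
        have h2 : E.c z ∈ (((E.c).ker ⊔ (c₁ i).ker).support : Set X₁) := (SDivLib.mem_support_iff_stalk _ _).2 hc
        rw [Scheme.IdealSheafData.support_sup] at h2
        have h3 : E.c z ∈ ((c₁ i).ker.support : Set X₁) := h2.2
        rwa [Scheme.Hom.support_ker, (c₁ i).isClosedEmbedding.isClosed_range.closure_eq] at h3)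
      rw [colen, Module.length_eq_zero_iff.2 (Ideal.Quotient.subsingleton_iff.2 h1)]
      exact zero_le_one
  have htang : G.tang = ∑ i, ∑ j, if i ≠ j then term (old i) (old j) else 0 := by
    rw [Fam.tang, Fintype.sum_prod_type, Fin.sum_univ_castSucc]
    simp only [Fin.sum_univ_castSucc, G, Fin.snoc_castSucc, Fin.snoc_last, hE1, hE2, ne_eq, ite_self, add_zero,
      Fin.castSucc_inj, not_true_eq_false, if_false, Finset.sum_const_zero]
  have hFt : F.tang = ∑ i, ∑ j, if i ≠ j then term (F.C i) (F.C j) else 0 := by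
    rw [Fam.tang, Fintype.sum_prod_type]
  have hGlast : Set.range (G.C (Fin.last n)).c = Set.range E.c :=
    congrArg (fun A : Cv X₁ => Set.range A.c) (Fin.snoc_last (α := fun _ => Cv X₁) E old)
  have hGcast : ∀ i : Fin n, Set.range (G.C i.castSucc).c = Set.range (c₁ i) := fun i =>
    congrArg (fun A : Cv X₁ => Set.range A.c) (Fin.snoc_castSucc (α := fun _ => Cv X₁) E old i)
  refine ⟨X₁, b, hi, hX₁.noeth, G, hX₁, hseq, hgen, fun D hD => BlowUpLib.isEffCartier_comap hb hD, ?_, ?_, ?_, ?_,
    fun w hw => PtBlowLib.bijective_stalkMap_of_isIso b (PtBlowLib.punct hx) w hw, hinj⟩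
  · ext y
    simp only [Fam.union, Set.mem_iUnion, Set.mem_preimage]
    constructor
    · rintro ⟨i, hy⟩
      induction i using Fin.lastCases with
      | last =>
        rw [hGlast] at hy
        rw [(hbE y).1 hy]
        exact Set.mem_iUnion.1 hxu
      | cast i =>
        rw [hGcast] at hy
        obtain ⟨z, rfl⟩ := hy
        exact ⟨i, z, (congrArg (fun m : (F.C i).Z ⟶ X => m z) (hc₁ i)).symm⟩
    · rintro ⟨i, z, hz⟩
      by_cases hbx : b y = x
      · refine ⟨Fin.last n, ?_⟩
        rw [hGlast]
        exact (hbE y).2 hbx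
      · refine ⟨i.castSucc, ?_⟩
        rw [hGcast]
        have h1 : b (c₁ i z) = (F.C i).c z := congrArg (fun m : (F.C i).Z ⟶ X => m z) (hc₁ i)
        exact ⟨z, hinj (show b (c₁ i z) ≠ x from fun h => hbx (hz.symm.trans (h1.symm.trans h))) hbx
          (h1.trans hz)⟩
  · rw [htang, hFt]
    refine Finset.sum_le_sum fun i _ => Finset.sum_le_sum fun j _ => ?_
    by_cases h : i ≠ j
    · rw [if_pos h, if_pos h]; exact (hterm i j h).1
    · rw [if_neg h, if_neg h]
  · rintro ⟨i, j, hij, hz⟩
    rw [htang, hFt]
    refine Finset.sum_lt_sum (fun i _ => Finset.sum_le_sum fun j _ => ?_) ⟨i, Finset.mem_univ _,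
      Finset.sum_lt_sum (fun j _ => ?_) ⟨j, Finset.mem_univ _, ?_⟩⟩
    · by_cases h : i ≠ j
      · rw [if_pos h, if_pos h]; exact (hterm i j h).1
      · rw [if_neg h, if_neg h]
    · by_cases h : i ≠ j
      · rw [if_pos h, if_pos h]; exact (hterm i j h).1
      · rw [if_neg h, if_neg h]
    · rw [if_pos hij, if_pos hij]; exact (hterm i j hij).2 hz
  · intro h0 hxt
    -- two strict transforms do not meet above the centre
    have hsep : ∀ i j, i ≠ j → ∀ y, b y = x → y ∈ Set.range (c₁ i) → y ∉ Set.range (c₁ j) := by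
      rintro i j hij y hy ⟨z, rfl⟩ hj
      haveI := (F.C i).noeth
      have hz : (F.C i).c z = x := (congrArg (fun m : (F.C i).Z ⟶ X => m z) (hc₁ i)).symm.trans hy
      have hxj : x ∈ Set.range (F.C j).c := by
        obtain ⟨w, hw⟩ := hj
        exact ⟨w, (congrArg (fun m : (F.C j).Z ⟶ X => m w) (hc₁ j)).symm.trans ((congrArg b hw).trans hy)⟩
      have hle1 := (F.tang_eq_zero_iff).1 h0 i j hij z
      have hlt : colen ((c₁ j).ker.comap (c₁ i)) z < colen (F.D i j) z :=
        colen_lt_of_le_mul (hmul i j hxj) (F.not_generic hij) ((hKs i z).2 hz) (F.colen_ne_top hij z)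
      have hzero : colen ((c₁ j).ker.comap (c₁ i)) z < 1 := hlt.trans_le hle1
      have hmem : z ∈ (((c₁ j).ker.comap (c₁ i)).support : Set (F.C i).Z) := by
        rw [Scheme.IdealSheafData.support_comap]
        show c₁ i z ∈ ((c₁ j).ker.support : Set X₁)
        rw [Scheme.Hom.support_ker]
        exact subset_closure hj
      exact not_le.2 hzero (PtBlowLib.one_le_colen _ z hmem)
    -- the triple points of the new configuration avoid the exceptional curve
    have hG : ∀ y ∈ G.triples, b y ≠ x ∧ b y ∈ F.triples := by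
      rintro y ⟨i, j, l, hij, hil, hjl, hyi, hyj, hyl⟩
      have hby : b y ≠ x := fun hy => by
        induction i using Fin.lastCases with
        | last =>
          induction j using Fin.lastCases with
          | last => exact hij rfl
          | cast j =>
            induction l using Fin.lastCases with
            | last => exact hil rfl
            | cast l =>
              rw [hGcast] at hyj hyl
              exact hsep j l (fun h => hjl (congrArg _ h)) y hy hyj hyl
        | cast i =>
          induction j using Fin.lastCases with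
          | last =>
            induction l using Fin.lastCases with
            | last => exact hjl rfl
            | cast l =>
              rw [hGcast] at hyi hyl
              exact hsep i l (fun h => hil (congrArg _ h)) y hy hyi hyl
          | cast j =>
            rw [hGcast] at hyi hyj
            exact hsep i j (fun h => hij (congrArg _ h)) y hy hyi hyj
      have hlift : ∀ k : Fin (n + 1), y ∈ Set.range (G.C k).c → ∃ k', k = Fin.castSucc k' ∧ b y ∈ Set.range (F.C k').c := by
        intro k hk
        induction k using Fin.lastCases with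
        | last =>
          rw [hGlast] at hk
          exact absurd ((hbE y).1 hk) hby
        | cast k =>
          rw [hGcast] at hk
          obtain ⟨w, rfl⟩ := hk
          exact ⟨k, rfl, w, (congrArg (fun m : (F.C k).Z ⟶ X => m w) (hc₁ k)).symm⟩
      obtain ⟨i', rfl, hi'⟩ := hlift i hyi
      obtain ⟨j', rfl, hj'⟩ := hlift j hyj
      obtain ⟨l', rfl, hl'⟩ := hlift l hyl
      exact ⟨hby, i', j', l', fun h => hij (congrArg _ h), fun h => hil (congrArg _ h), fun h => hjl (congrArg _ h),
        hi', hj', hl'⟩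
    have hf := F.finite_triples
    calc G.triples.ncard = (b '' G.triples).ncard :=
          (Set.InjOn.ncard_image (hinj.mono fun y hy => (hG y hy).1)).symm
      _ ≤ (F.triples \ {x}).ncard := Set.ncard_le_ncard
          (by rintro _ ⟨y, hy, rfl⟩; exact ⟨(hG y hy).2, (hG y hy).1⟩) hf.sdiff
      _ < F.triples.ncard := Set.ncard_sdiff_singleton_lt_of_mem hxt hf

end SncLib
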