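import Mathlib
import Groth.Agent.SncLib.Step
import Groth.Agent.S1684

/-! Local equations at points of a normal crossings configuration. -/

set_option autoImplicit false
set_option linter.style.haveILetI false
set_option linter.unusedSectionVars false
set_option maxHeartbeats 1000000
set_option backward.isDefEq.respectTransparency false
set_option backward.isDefEq.respectTransparency.types false
universe u

open CategoryTheory CategoryTheory.Limits AlgebraicGeometry TopologicalSpace

namespace SncLib

open PtBlowLib (colen)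

variable {X : Scheme.{u}} [IsIntegral X] [IsNoetherian X]

theorem Cv.dim_eta (hX : Surf X) (C : Cv X) (hC : C.Good) : ringKrullDim (X.presheaf.stalk C.η) = 1 := by
  have h2 : ringKrullDim (X.presheaf.stalk C.η) ≤ 2 := (DimIneqLib.stalk_dim_le_dim _).trans hX.dim
  have hne : ringKrullDim (X.presheaf.stalk C.η) ≠ 2 := fun h => hC.1 (isClosed_of_dim_two hX _ h)
  rw [ringKrullDim_stalk_eq_coheight] at h2 hne ⊢
  have h2' : Order.coheight C.η ≤ 2 := WithBot.coe_le_coe.1 h2
  have h0 : Order.coheight C.η ≠ 0 := fun h => hC.2 (((show C.η ⤳ genericPoint X from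
    (Order.coheight_eq_zero.1 h) (genericPoint_specializes C.η)).antisymm (genericPoint_specializes C.η)).eq)
  obtain ⟨m, hm⟩ := ENat.ne_top_iff_exists.1 (ne_top_of_le_ne_top (ENat.natCast_ne_top 2) h2')
  rw [← hm] at h2' h0 hne ⊢
  have hm2 : m ≤ 2 := by exact_mod_cast h2'
  have hm0 : m ≠ 0 := fun h => h0 (by simp [h])
  have hm2' : m ≠ 2 := fun h => hne (by simp [h])
  have : m = 1 := by omega
  subst this
  rfl

theorem Cv.isEffCartier_ker (hX : Surf X) (C : Cv X) (hC : C.Good) : BlowUp.IsEffCartierIdeal C.c.ker := by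
  let e : C.Z ≅ C.c.ker.subscheme := asIso C.c.toImage
  have he : e.hom ≫ C.c.ker.subschemeι = C.c := C.c.toImage_imageι
  haveI : Nonempty C.c.ker.subscheme := ⟨e.hom (genericPoint C.Z)⟩
  haveI : IsIntegral C.c.ker.subscheme := isIntegral_of_isOpenImmersion e.inv
  refine Groth.Agent.S1684.result X C.c.ker ?_ fun x _ => ?_
  · have h : C.c.ker.subschemeι (genericPoint C.c.ker.subscheme) = C.η := by
      rw [← genericPoint_eq_of_isOpenImmersion e.hom, ← Scheme.Hom.comp_apply, he]
      rfl
    rw [h]
    exact C.dim_eta hX hC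
  · haveI := hX.regular x
    exact ⟨CommAlgDim.isDomain_of_isRegularLocalRing _, RegUFDLib.uniqueFactorizationMonoid _⟩

/-- The equation of a curve at one of its points. -/
theorem Cv.exists_eq (hX : Surf X) (C : Cv X) (hC : C.Good) (z : C.Z) :
    ∃ a : X.presheaf.stalk (C.c z), a ∈ nonZeroDivisors _ ∧ IntMult.stalkIdeal C.c.ker (C.c z) = Ideal.span {a} ∧
      (Ideal.span {a}).IsPrime ∧ RingHom.ker (C.c.stalkMap z).hom = Ideal.span {a} := by
  obtain ⟨a, ha, hCa⟩ := SDivLib.exists_gen (C.isEffCartier_ker hX hC) (C.c z)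
  have hk : RingHom.ker (C.c.stalkMap z).hom = Ideal.span {a} := by
    rw [IntTensorLib.ker_stalkMap_eq_stalkIdeal C.c z, hCa]
  haveI := C.regular z
  haveI : IsDomain (C.Z.presheaf.stalk z) := CommAlgDim.isDomain_of_isRegularLocalRing _
  exact ⟨a, ha, hCa, hk ▸ RingHom.ker_isPrime _, hk⟩

theorem not_principal {A : Type u} [CommRing A] [IsRegularLocalRing A] (hd : ringKrullDim A = 2) (b : A) :
    IsLocalRing.maximalIdeal A ≠ Ideal.span {b} := by
  intro h
  have h1 := IsRegularLocalRing.spanFinrank_maximalIdeal (R := A)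
  have h3 : (IsLocalRing.maximalIdeal A).spanFinrank ≤ 1 := by
    rw [h]
    exact (Submodule.spanFinrank_span_le_ncard_of_finite (Set.finite_singleton b)).trans (Set.ncard_singleton b).le
  rw [hd] at h1
  have h4 : (IsLocalRing.maximalIdeal A).spanFinrank = 2 := by exact_mod_cast h1
  omega

theorem eq_maximal_of_colen_le_one {Y : Scheme.{u}} {J : Y.IdealSheafData} {y : Y} (hy : y ∈ (J.support : Set Y))
    (h : colen J y ≤ 1) : IntMult.stalkIdeal J y = IsLocalRing.maximalIdeal (Y.presheaf.stalk y) := by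
  rcases (IsLocalRing.le_maximalIdeal ((SDivLib.mem_support_iff_stalk J y).1 hy)).eq_or_lt with h1 | h1
  · exact h1
  have hne : colen J y ≠ ⊤ := ne_top_of_le_ne_top ENat.one_ne_top h
  rw [colen, ← PtBlowLib.length_quot, Module.length_quotient] at hne h
  have h2 := Order.coheight_strictAnti h1 ((Order.coheight_anti h1.le).trans_lt hne.lt_top)
  have h3 : (1 : ℕ∞) ≤ Order.coheight (IsLocalRing.maximalIdeal (Y.presheaf.stalk y) :
      Submodule (Y.presheaf.stalk y) (Y.presheaf.stalk y)) := by
    rw [← Module.length_quotient, Order.one_le_iff_pos]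
    haveI : Nontrivial (↑(Y.presheaf.stalk y) ⧸ IsLocalRing.maximalIdeal (Y.presheaf.stalk y)) :=
      Ideal.Quotient.nontrivial_iff.2 (IsLocalRing.maximalIdeal.isMaximal _).ne_top
    exact Module.length_pos
  exact absurd ((h3.trans_lt h2).trans_le h) (lt_irrefl _)

open Classical in
/-- At every point of a configuration without tangencies and triple points the reduced union has normal
crossings. -/
theorem Fam.local_snc (hX : Surf X) {n : ℕ} (F : Fam X n) (h0 : F.tang = 0) (ht : F.triples = ∅)
    (J : X.IdealSheafData) (p : X) (hp : p ∈ F.union) (hJ1 : F.union ⊆ (J.support : Set X))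
    (hJ2 : ∀ w ∈ (J.support : Set X), w ⤳ p → w ∈ F.union) :
    ∃ (d r : ℕ) (x : Fin d → X.presheaf.stalk p),
      1 ≤ r ∧ r ≤ d ∧ ringKrullDim (X.presheaf.stalk p) = (d : WithBot ℕ∞) ∧
      Ideal.span (Set.range x) = IsLocalRing.maximalIdeal (X.presheaf.stalk p) ∧
      (IntMult.stalkIdeal J p).radical = Ideal.span {∏ i : Fin d, if (i : ℕ) < r then x i else 1} := by
  haveI := hX.regular p
  haveI : IsDomain (X.presheaf.stalk p) := CommAlgDim.isDomain_of_isRegularLocalRing _
  obtain ⟨i, z, rfl⟩ : ∃ i, p ∈ Set.range (F.C i).c := Set.mem_iUnion.1 hp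
  obtain ⟨a, ha, hai, hap, hak⟩ := (F.C i).exists_eq hX (F.good i) z
  have hspec : ∀ (K : X.IdealSheafData) (P : PrimeSpectrum (X.presheaf.stalk ((F.C i).c z))),
      P ∈ PrimeSpectrum.zeroLocus (IntMult.stalkIdeal K ((F.C i).c z) : Set (X.presheaf.stalk ((F.C i).c z))) ↔
        X.fromSpecStalk ((F.C i).c z) P ∈ (K.support : Set X) := fun K P => by
    rw [← PtBlowLib.coe_support_idealSheaf (A := X.presheaf.stalk ((F.C i).c z)) (IntMult.stalkIdeal K _)]
    have h := congrArg (fun (D : (Spec (X.presheaf.stalk ((F.C i).c z))).IdealSheafData) => (D.support : Set (Spec (X.presheaf.stalk ((F.C i).c z)))))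
      (PtBlowLib.comap_fromSpecStalk K ((F.C i).c z))
    simp only [Scheme.IdealSheafData.support_comap] at h
    exact (Set.ext_iff.1 h P).symm
  have hrange : ∀ j, ((F.C j).c.ker.support : Set X) = Set.range (F.C j).c := fun j => by
    rw [Scheme.Hom.support_ker, (F.C j).c.isClosedEmbedding.isClosed_range.closure_eq]
  by_cases hj : ∃ j, i ≠ j ∧ (F.C i).c z ∈ Set.range (F.C j).c
  · obtain ⟨j, hij, hmem⟩ := hj
    obtain ⟨w, hw⟩ := hmem
    have hzη : z ≠ genericPoint (F.C i).Z := fun h => F.not_generic hij ((F.mem_D i j _).2 ⟨w, h ▸ hw⟩)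
    have hd := dim_two_of_curve hX (F.C i).c (F.good i).2 z hzη
    obtain ⟨b, hb, hbi, hbp⟩ : ∃ b : X.presheaf.stalk ((F.C i).c z), b ∈ nonZeroDivisors _ ∧
        IntMult.stalkIdeal (F.C j).c.ker ((F.C i).c z) = Ideal.span {b} ∧ (Ideal.span {b}).IsPrime := by
      have key : ∀ y : X, (F.C j).c w = y → ∃ b : X.presheaf.stalk y, b ∈ nonZeroDivisors _ ∧
          IntMult.stalkIdeal (F.C j).c.ker y = Ideal.span {b} ∧ (Ideal.span {b}).IsPrime := by
        rintro y rfl
        obtain ⟨b, h1, h2, h3, -⟩ := (F.C j).exists_eq hX (F.good j) w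
        exact ⟨b, h1, h2, h3⟩
      exact key _ hw
    have hm : Ideal.span {a} ⊔ Ideal.span {b} = IsLocalRing.maximalIdeal (X.presheaf.stalk ((F.C i).c z)) := by
      rw [← hai, ← hbi, ← DiagTorLib.stalkIdeal_sup]
      refine eq_maximal_of_colen_le_one ?_ ?_
      · rw [Scheme.IdealSheafData.support_sup]
        refine ⟨?_, ?_⟩
        · rw [SetLike.mem_coe, ← SetLike.mem_coe, hrange]; exact ⟨z, rfl⟩
        · rw [SetLike.mem_coe, ← SetLike.mem_coe, hrange]; exact ⟨w, hw⟩
      · rw [← colen_comap_closed]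
        exact (F.tang_eq_zero_iff).1 h0 i j hij z
    have hab : a ∉ Ideal.span {b} := fun h => not_principal hd b
      (hm.symm.trans (sup_eq_right.2 ((Ideal.span_singleton_le_iff_mem _).2 h)))
    refine ⟨2, 2, ![a, b], by norm_num, le_rfl, hd, ?_, ?_⟩
    · rw [← hm, ← Ideal.span_union, Set.singleton_union, Matrix.range_cons_cons_empty]
    · have hprod : (∏ k : Fin 2, if (k : ℕ) < 2 then ![a, b] k else 1) = a * b := by simp [Fin.prod_univ_two]
      rw [hprod]
      have hzl : PrimeSpectrum.zeroLocus (IntMult.stalkIdeal J ((F.C i).c z) : Set (X.presheaf.stalk ((F.C i).c z))) =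
          PrimeSpectrum.zeroLocus (Ideal.span {a * b} : Set (X.presheaf.stalk ((F.C i).c z))) := by
        ext P
        rw [hspec J P, ← Ideal.span_singleton_mul_span_singleton, PrimeSpectrum.zeroLocus_mul, Set.mem_union,
          ← hai, ← hbi, hspec, hspec, hrange, hrange]
        refine ⟨fun h => ?_, fun h => ?_⟩
        · obtain ⟨l, hl⟩ := Set.mem_iUnion.1 (hJ2 _ h (((IsLocalRing.specializes_closedPoint (R := X.presheaf.stalk ((F.C i).c z)) P).map (X.fromSpecStalk ((F.C i).c z)).continuous).trans (specializes_of_eq Scheme.fromSpecStalk_closedPoint)))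
          have hpl : (F.C i).c z ∈ Set.range (F.C l).c := by
            have hh := (IsLocalRing.specializes_closedPoint (R := X.presheaf.stalk ((F.C i).c z)) P).map
              (X.fromSpecStalk ((F.C i).c z)).continuous
            rw [Scheme.fromSpecStalk_closedPoint] at hh
            exact hh.mem_closed (F.C l).c.isClosedEmbedding.isClosed_range hl
          by_cases hli : l = i
          · exact Or.inl (hli ▸ hl)
          by_cases hlj : l = j
          · exact Or.inr (hlj ▸ hl)
          exact absurd (show (F.C i).c z ∈ F.triples from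
            ⟨i, j, l, hij, Ne.symm hli, Ne.symm hlj, ⟨z, rfl⟩, ⟨w, hw⟩, hpl⟩) (by rw [ht]; exact id)
        · exact h.elim (fun h => hJ1 (Set.mem_iUnion.2 ⟨i, h⟩)) fun h => hJ1 (Set.mem_iUnion.2 ⟨j, h⟩)
      rw [← PrimeSpectrum.vanishingIdeal_zeroLocus_eq_radical, hzl, PrimeSpectrum.vanishingIdeal_zeroLocus_eq_radical]
      refine le_antisymm (fun y hy => ?_) Ideal.le_radical
      obtain ⟨m, hm'⟩ := hy
      have hya : y ∈ Ideal.span {a} := hap.mem_of_pow_mem m (Ideal.span_singleton_le_span_singleton.2 (dvd_mul_right a b) hm')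
      have hyb : y ∈ Ideal.span {b} := hbp.mem_of_pow_mem m (Ideal.span_singleton_le_span_singleton.2 (dvd_mul_left b a) hm')
      obtain ⟨s, rfl⟩ := Ideal.mem_span_singleton'.1 hya
      obtain ⟨t, ht'⟩ := Ideal.mem_span_singleton'.1 ((hbp.mem_or_mem hyb).resolve_right hab)
      exact Ideal.mem_span_singleton'.2 ⟨t, by rw [← ht']; ring⟩
  · push Not at hj
    have hrad : (IntMult.stalkIdeal J ((F.C i).c z)).radical = Ideal.span {a} := by
      have hzl : PrimeSpectrum.zeroLocus (IntMult.stalkIdeal J ((F.C i).c z) : Set (X.presheaf.stalk ((F.C i).c z))) =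
          PrimeSpectrum.zeroLocus (Ideal.span {a} : Set (X.presheaf.stalk ((F.C i).c z))) := by
        ext P
        rw [hspec J P, ← hai, hspec, hrange]
        refine ⟨fun h => ?_, fun h => hJ1 (Set.mem_iUnion.2 ⟨i, h⟩)⟩
        obtain ⟨l, hl⟩ := Set.mem_iUnion.1 (hJ2 _ h (((IsLocalRing.specializes_closedPoint (R := X.presheaf.stalk ((F.C i).c z)) P).map (X.fromSpecStalk ((F.C i).c z)).continuous).trans (specializes_of_eq Scheme.fromSpecStalk_closedPoint)))
        have hpl : (F.C i).c z ∈ Set.range (F.C l).c := by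
          have hh := (IsLocalRing.specializes_closedPoint (R := X.presheaf.stalk ((F.C i).c z)) P).map
            (X.fromSpecStalk ((F.C i).c z)).continuous
          rw [Scheme.fromSpecStalk_closedPoint] at hh
          exact hh.mem_closed (F.C l).c.isClosedEmbedding.isClosed_range hl
        by_cases hli : i = l
        · exact hli ▸ hl
        · exact absurd hpl (hj l hli)
      rw [← PrimeSpectrum.vanishingIdeal_zeroLocus_eq_radical, hzl, PrimeSpectrum.vanishingIdeal_zeroLocus_eq_radical]
      exact hap.radical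
    haveI := (F.C i).regular z
    haveI : IsDomain ((F.C i).Z.presheaf.stalk z) := CommAlgDim.isDomain_of_isRegularLocalRing _
    let φ := ((F.C i).c.stalkMap z).hom
    have hmax : IsLocalRing.maximalIdeal (X.presheaf.stalk ((F.C i).c z)) =
        (IsLocalRing.maximalIdeal ((F.C i).Z.presheaf.stalk z)).comap φ := (IsLocalRing.maximalIdeal_comap φ).symm
    by_cases hzη : z = genericPoint (F.C i).Z
    · refine ⟨1, 1, ![a], le_rfl, le_rfl, ?_, ?_, by simpa using hrad⟩
      · have h3 : ∀ y, y = genericPoint (F.C i).Z → ringKrullDim (X.presheaf.stalk ((F.C i).c y)) = 1 := by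
          rintro y rfl
          exact (F.C i).dim_eta hX (F.good i)
        exact_mod_cast h3 z hzη
      · have hbot : IsLocalRing.maximalIdeal ((F.C i).Z.presheaf.stalk z) = ⊥ := by
          have h3 : ∀ y, y = genericPoint (F.C i).Z → IsLocalRing.maximalIdeal ((F.C i).Z.presheaf.stalk y) = ⊥ := by
            rintro y rfl
            exact (IsLocalRing.isField_iff_maximalIdeal_eq).1 (Field.toIsField (F.C i).Z.functionField)
          exact h3 z hzη
        rw [hmax, hbot, ← RingHom.ker_eq_comap_bot, hak]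
        simp
    · have hd := dim_two_of_curve hX (F.C i).c (F.good i).2 z hzη
      obtain ⟨t, ht'⟩ : ∃ t : X.presheaf.stalk ((F.C i).c z),
          IsLocalRing.maximalIdeal ((F.C i).Z.presheaf.stalk z) = Ideal.span {φ t} := by
        have hP : IsPrincipalIdealRing ((F.C i).Z.presheaf.stalk z) := by
          by_cases hf : IsField ((F.C i).Z.presheaf.stalk z)
          · letI := hf.toField
            infer_instance
          · haveI : IsDiscreteValuationRing ((F.C i).Z.presheaf.stalk z) :=
              WeilExtLib.isDiscreteValuationRing_of_regular _ ((DimIneqLib.stalk_dim_le_dim z).trans (F.C i).dim) hf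
            infer_instance
        obtain ⟨t₀, ht₀⟩ := (hP.principal (IsLocalRing.maximalIdeal _)).principal
        obtain ⟨t, rfl⟩ := (F.C i).c.stalkMap_surjective z t₀
        exact ⟨t, ht₀⟩
      refine ⟨2, 1, ![a, t], le_rfl, by norm_num, hd, ?_, by simpa [Fin.prod_univ_two] using hrad⟩
      rw [hmax, ht', ← Set.image_singleton, ← Ideal.map_span,
        Ideal.comap_map_of_surjective φ ((F.C i).c.stalkMap_surjective z), ← RingHom.ker_eq_comap_bot, hak,
        ← Ideal.span_union, Set.union_singleton, Matrix.range_cons_cons_empty]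

end SncLib
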