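import Mathlib
import Groth.Agent.SncLib.Local
import Groth.Agent.PtBlowLib.Divisorial

/-! The loops of the embedded resolution. -/

set_option autoImplicit false
set_option linter.style.haveILetI false
set_option linter.unusedSectionVars false
set_option backward.isDefEq.respectTransparency false
set_option backward.isDefEq.respectTransparency.types false
universe u

open CategoryTheory CategoryTheory.Limits AlgebraicGeometry TopologicalSpace

namespace SncLib

/-- A stage over `X`. -/
structure Stage {X' X : Scheme.{u}} [IsIntegral X] (g : X' ⟶ X) : Prop where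
  seq : CSeq g
  surf : Surf X'
  gen : ∀ [IsIntegral X'], g (genericPoint X') = genericPoint X

theorem stage_id {X : Scheme.{u}} [IsIntegral X] (hX : Surf X) : Stage (𝟙 X) :=
  ⟨fun r hr => by rwa [Category.id_comp], hX, fun {_} => rfl⟩

theorem Stage.comp {X'' X' X : Scheme.{u}} [IsIntegral X] [IsIntegral X'] {b : X'' ⟶ X'} {g : X' ⟶ X}
    (hg : Stage g) (hX : Surf X'') (hb : CSeq b) (hgen : ∀ [IsIntegral X''], b (genericPoint X'') = genericPoint X') :
    Stage (b ≫ g) :=
  ⟨fun r hr => by rw [Category.assoc]; exact hb _ (hg.seq r hr), hX, fun {_} => by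
    rw [Scheme.Hom.comp_apply, hgen, hg.gen]⟩

/-- Curves and finitely many further closed points covering a set. -/
def Covered {X : Scheme.{u}} (S : Set X) : Prop :=
  ∃ (n : ℕ) (C : Fin n → Cv X) (T : Set X), (∀ i, (C i).Good) ∧ T.Finite ∧ (∀ t ∈ T, IsClosed ({t} : Set X)) ∧ S ⊆ (⋃ i, Set.range (C i).c) ∪ T

/-- Blowing up a point keeps a set covered. -/
theorem covered_step {X' : Scheme.{u}} [IsIntegral X'] (hX : Surf X') {S : Set X'} (hS : Covered S) (x : X')
    (hx : IsClosed ({x} : Set X')) (hd : ringKrullDim (X'.presheaf.stalk x) = 2) {X₁ : Scheme.{u}} (b : X₁ ⟶ X')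
    (hb : BlowUp.IsBlowUp b (Scheme.IdealSheafData.vanishingIdeal ⟨{x}, hx⟩)) :
    ∃ _ : IsIntegral X₁, Surf X₁ ∧ CSeq b ∧ b (genericPoint X₁) = genericPoint X' ∧ Covered (b ⁻¹' S) := by
  obtain ⟨n, C, T, hC, hT, hTc, hS⟩ := hS
  obtain ⟨hx', Y, b', hb', hiY, c₁, hcl, E, hY, hgen, hseq, hc₁, hrE, -, hE, hiso, hnew⟩ := SncLib.blow hX C hC x hd
  obtain ⟨e, he⟩ := BlowUpLib.exists_iso hb' hb
  haveI := hiY
  haveI : Nonempty X₁ := ⟨e.inv (genericPoint Y)⟩
  haveI := isIntegral_of_isOpenImmersion e.hom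
  haveI := hX.noeth; haveI := hX.regular x
  obtain ⟨hi₁, hX₁, hgen₁⟩ := hX.blow hx hd b hb
  refine ⟨hi₁, hX₁, fun r hr => PtBlowLib.contractionSeq_comp hx b hb hd r hr, hgen₁, ?_⟩
  haveI := hiso
  haveI := hcl
  let cv : Fin (n + 1) → Cv X₁ := Fin.snoc
    (fun i => ⟨(C i).Z, c₁ i ≫ e.inv, (C i).integral, inferInstance, (C i).regular, (C i).dim⟩)
    ⟨E.Z, E.c ≫ e.inv, E.integral, inferInstance, E.regular, E.dim⟩
  have htr : ∀ (y : Y), ¬ IsClosed ({y} : Set Y) → y ≠ genericPoint Y →
      ¬ IsClosed ({e.inv y} : Set X₁) ∧ e.inv y ≠ genericPoint X₁ := fun y h1 h2 => by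
    refine ⟨fun h => h1 ?_, fun h => h2 ?_⟩
    · rw [← e.inv.homeomorph.injective.preimage_image {y}, Set.image_singleton]
      exact h.preimage e.inv.continuous
    · have h3 : e.inv (genericPoint Y) = genericPoint X₁ := genericPoint_eq_of_isOpenImmersion e.inv
      exact e.inv.homeomorph.injective (h.trans h3.symm)
  have hlast : Set.range (cv (Fin.last n)).c = Set.range (E.c ≫ e.inv) :=
    congrArg (fun A : Cv X₁ => Set.range A.c) (Fin.snoc_last (α := fun _ => Cv X₁) _ _)
  have hcast : ∀ i : Fin n, Set.range (cv i.castSucc).c = Set.range (c₁ i ≫ e.inv) := fun i =>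
    congrArg (fun A : Cv X₁ => Set.range A.c) (Fin.snoc_castSucc (α := fun _ => Cv X₁) _ _ i)
  refine ⟨n + 1, cv, b ⁻¹' (T \ {x}), fun i => ?_, ?_, fun w hw => ?_, fun w hw => ?_⟩
  · induction i using Fin.lastCases with
    | last =>
      simp only [cv, Fin.snoc_last]
      exact ⟨(htr _ hE.1 hE.2).1, fun {_} => (htr _ hE.1 hE.2).2⟩
    | cast i =>
      simp only [cv, Fin.snoc_castSucc]
      exact ⟨(htr _ (hnew i).1 (hnew i).2.1).1, fun {_} => (htr _ (hnew i).1 (hnew i).2.1).2⟩
  · haveI := PtBlowLib.isIso_punct hx b hb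
    exact Set.Finite.of_finite_image (f := b) (hT.subset (by rintro _ ⟨w, hw, rfl⟩; exact hw.1))
      ((PtBlowLib.injOn_of_isIso b (PtBlowLib.punct hx)).mono fun w hw => hw.2)
  · haveI := PtBlowLib.isIso_punct hx b hb
    rw [show ({w} : Set X₁) = b ⁻¹' {b w} from Set.ext fun v => ⟨fun h => by rw [Set.mem_singleton_iff.1 h]; rfl,
      fun h => PtBlowLib.injOn_of_isIso b (PtBlowLib.punct hx)
        (show b v ≠ x from fun hv => hw.2 ((Set.mem_singleton_iff.1 h).symm.trans hv)) hw.2 h⟩]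
    exact (hTc _ hw.1).preimage b.continuous
  · have heb : ∀ y, b (e.inv y) = b' y := fun y => by
      rw [← Scheme.Hom.comp_apply, show e.inv ≫ b = b' from (Iso.inv_comp_eq e).2 he.symm]
    obtain ⟨y, rfl⟩ := e.inv.homeomorph.surjective w
    by_cases hy : b' y = x
    · refine Or.inl (Set.mem_iUnion.2 ⟨Fin.last n, ?_⟩)
      rw [hlast]
      obtain ⟨z, hz⟩ := (Set.ext_iff.1 hrE y).2 hy
      exact ⟨z, congrArg e.inv hz⟩
    · rcases hS (show b (e.inv y) ∈ S from hw) with h | h
      · obtain ⟨i, z, hz⟩ := Set.mem_iUnion.1 h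
        refine Or.inl (Set.mem_iUnion.2 ⟨i.castSucc, ?_⟩)
        rw [hcast]
        have h1 : b' (c₁ i z) = (C i).c z := congrArg (fun m : (C i).Z ⟶ X' => m z) (hc₁ i)
        have h2 : b' (c₁ i z) = b' y := h1.trans (hz.trans (heb y))
        exact ⟨z, congrArg e.inv (PtBlowLib.injOn_of_isIso b' (PtBlowLib.punct hx')
          (show b' (c₁ i z) ≠ x from h2 ▸ hy) hy h2)⟩
      · exact Or.inr ⟨h, fun h' => hy ((heb y).symm.trans (Set.mem_singleton_iff.1 h'))⟩

/-- Principalization keeping track of covering curves. -/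
theorem principalize_covered {X : Scheme.{u}} [IsIntegral X] (S : Set X) : ∀ (m : ℕ) (X' : Scheme.{u}) (g : X' ⟶ X),
    Stage g → Covered (g ⁻¹' S) → ∀ (I : X'.IdealSheafData) (hf : (I.support : Set X').Finite),
    (∀ x ∈ (I.support : Set X'), PtBlowLib.RegTwo X' x) → ∑ y ∈ hf.toFinset, PtBlowLib.colen I y ≤ (m : ℕ∞) →
    ∃ (X'' : Scheme.{u}) (b : X'' ⟶ X'), Stage (b ≫ g) ∧ Covered ((b ≫ g) ⁻¹' S) ∧
      BlowUp.IsEffCartierIdeal (I.comap b) ∧
      ∀ D : X'.IdealSheafData, BlowUp.IsEffCartierIdeal D → BlowUp.IsEffCartierIdeal (D.comap b) := by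
  intro m
  induction m with
  | zero =>
    intro X' g hg hS I hf _ hsum
    refine ⟨X', 𝟙 X', by rwa [Category.id_comp], by rwa [Category.id_comp], ?_, fun D hD => by
      rwa [Scheme.IdealSheafData.comap_id]⟩
    have he : (I.support : Set X') = ∅ := Set.eq_empty_of_forall_notMem fun x hx => by
      have := (PtBlowLib.one_le_colen I x hx).trans
        ((Finset.single_le_sum (fun _ _ => zero_le) (hf.mem_toFinset.2 hx)).trans hsum)
      simp at this
    rw [(Scheme.IdealSheafData.support_eq_bot_iff I).1 (Closeds.ext he), Scheme.IdealSheafData.comap_top]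
    exact EffCartLib.isEffCartier_top
  | succ m ih =>
    intro X' g hg hS I hf h hsum
    rcases (I.support : Set X').eq_empty_or_nonempty with he | ⟨x, hxI⟩
    · refine ⟨X', 𝟙 X', by rwa [Category.id_comp], by rwa [Category.id_comp], ?_, fun D hD => by
        rwa [Scheme.IdealSheafData.comap_id]⟩
      rw [(Scheme.IdealSheafData.support_eq_bot_iff I).1 (Closeds.ext he), Scheme.IdealSheafData.comap_top]
      exact EffCartLib.isEffCartier_top
    obtain ⟨hx, hreg, hd⟩ := h x hxI
    haveI := hreg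
    haveI := hg.surf.integral
    haveI := hg.surf.noeth
    obtain ⟨X1, b, hb⟩ := Groth.Agent.S8859.result X' (Scheme.IdealSheafData.vanishingIdeal ⟨{x}, hx⟩)
    obtain ⟨hi1, hX1, hseq, hgen, hcov⟩ := covered_step hg.surf hS x hx hd b hb
    haveI := hi1
    haveI := hX1.noeth
    obtain ⟨d, I', hI', hf', hc', hsub, hlt⟩ :=
      PtBlowLib.exists_split hx b hb I hd hf (fun y hy => (h y hy).1) hxI
    have hreg' : ∀ z ∈ (I'.support : Set X1), PtBlowLib.RegTwo X1 z := fun z hz => by
      refine ⟨hc' z hz, hX1.regular z, ?_⟩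
      by_cases hbz : b z = x
      · exact (PtBlowLib.point_new hx b hb hd z hbz (hc' z hz)).2
      · haveI := PtBlowLib.isIso_punct hx b hb
        exact (ringKrullDim_eq_of_ringEquiv
          (RingEquiv.ofBijective _ (PtBlowLib.bijective_stalkMap_of_isIso b (PtBlowLib.punct hx) z hbz))).symm.trans
          (h (b z) (hsub hz)).2.2
    have hsum' : ∑ z ∈ hf'.toFinset, PtBlowLib.colen I' z ≤ (m : ℕ∞) := by
      have := hlt.trans_le hsum
      rw [Nat.cast_succ] at this
      exact ENat.lt_add_one_iff (ENat.natCast_ne_top m) |>.1 this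
    obtain ⟨X'', q, hst, hcv, hIq, hD⟩ := ih X1 (b ≫ g) (hg.comp hX1 hseq fun {_} => hgen) hcov I' hf' hreg' hsum'
    refine ⟨X'', q ≫ b, by rwa [Category.assoc], by rwa [Category.assoc], ?_, fun D hD' => ?_⟩
    · rw [Scheme.IdealSheafData.comap_comp, hI', BlowUpLib.comap_mul, PtBlowLib.comap_pow]
      exact AlgSpRegLib.isEffCartier_mul hIq (PtBlowLib.isEffCartier_pow (hD _ hb.1) d)
    · rw [Scheme.IdealSheafData.comap_comp]
      exact hD _ (BlowUpLib.isEffCartier_comap hb hD')

/-- The curves of a configuration sit in the support; the other points of the support are closed of dimension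
at most one. -/
def Fam.Fits {X : Scheme.{u}} {n : ℕ} (F : Fam X n) (J : X.IdealSheafData) : Prop :=
  F.union ⊆ (J.support : Set X) ∧
    ∀ w ∈ (J.support : Set X), w ∉ F.union → IsClosed ({w} : Set X) ∧ ringKrullDim (X.presheaf.stalk w) ≠ 2

/-- The loop removing tangencies and triple points. -/
theorem exists_normal_crossings {X : Scheme.{u}} [IsIntegral X] (I : X.IdealSheafData) :
    ∀ (m k : ℕ) (X' : Scheme.{u}) (g : X' ⟶ X) (n : ℕ) (F : Fam X' n), Stage g →
      BlowUp.IsEffCartierIdeal (I.comap g) → F.Fits (I.comap g) → F.tang ≤ m → F.triples.ncard ≤ k →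
      ∃ (X'' : Scheme.{u}) (g' : X'' ⟶ X) (n' : ℕ) (G : Fam X'' n'), Stage g' ∧ BlowUp.IsEffCartierIdeal (I.comap g') ∧
        G.Fits (I.comap g') ∧ G.tang = 0 ∧ G.triples = ∅ := by
  intro m
  induction m using Nat.strong_induction_on with
  | _ m ihm =>
    intro k
    induction k using Nat.strong_induction_on with
    | _ k ihk =>
      intro X' g n F hg hJ hfit hm hk
      haveI := hg.surf.integral
      haveI := hg.surf.noeth
      have next_ : ∀ (x : X'), ringKrullDim (X'.presheaf.stalk x) = 2 → x ∈ F.union →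
          ∃ (X₁ : Scheme.{u}) (g₁ : X₁ ⟶ X) (G : Fam X₁ (n + 1)), Stage g₁ ∧
            BlowUp.IsEffCartierIdeal (I.comap g₁) ∧ G.Fits (I.comap g₁) ∧ G.tang ≤ F.tang ∧
            ((∃ i j, i ≠ j ∧ ∃ z, (F.C i).c z = x ∧ 2 ≤ PtBlowLib.colen (F.D i j) z) → G.tang < F.tang) ∧
            (F.tang = 0 → x ∈ F.triples → G.triples.ncard < F.triples.ncard) := by
        intro x hd hxu
        obtain ⟨X₁, b, hi₁, hn₁, G, hX₁, hseq, hgen, hcar, hun, hle, hlt, htri, hbij, hinj⟩ := F.blow hg.surf x hd hxu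
        haveI := hi₁
        haveI := hn₁
        refine ⟨X₁, b ≫ g, G, hg.comp hX₁ hseq fun {_} => hgen, ?_, ⟨?_, ?_⟩, hle, hlt, htri⟩
        · rw [Scheme.IdealSheafData.comap_comp]; exact hcar _ hJ
        · rw [Scheme.IdealSheafData.comap_comp, Scheme.IdealSheafData.support_comap, hun]
          exact Set.preimage_mono hfit.1
        · intro w hw hwu
          rw [Scheme.IdealSheafData.comap_comp, Scheme.IdealSheafData.support_comap] at hw
          have hwu' : b w ∉ F.union := fun h => hwu (hun ▸ h)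
          obtain ⟨hcl, hne⟩ := hfit.2 (b w) hw hwu'
          have hbx : b w ≠ x := fun h => hwu' (h ▸ hxu)
          refine ⟨?_, fun h => hne ((ringKrullDim_eq_of_ringEquiv
            (RingEquiv.ofBijective _ (hbij w hbx))).trans h)⟩
          rw [show ({w} : Set X₁) = b ⁻¹' {b w} from Set.ext fun v => ⟨fun h => by rw [Set.mem_singleton_iff.1 h]; rfl,
            fun h => hinj (show b v ≠ x from fun hv => hbx ((Set.mem_singleton_iff.1 h).symm.trans hv)) hbx h⟩]
          exact hcl.preimage b.continuous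
      by_cases h0 : F.tang = 0
      · by_cases ht : F.triples = ∅
        · exact ⟨X', g, n, F, hg, hJ, hfit, h0, ht⟩
        obtain ⟨x, hxt⟩ := Set.nonempty_iff_ne_empty.2 ht
        obtain ⟨i, j, l, hij, -, -, ⟨z, hz⟩, hj, -⟩ := id hxt
        have hxz : x ∈ F.union := Set.mem_iUnion.2 ⟨i, z, hz⟩
        have hd : ringKrullDim (X'.presheaf.stalk x) = 2 := by
          subst hz
          exact dim_two_of_curve hg.surf (F.C i).c (F.good i).2 z
            (fun h => F.not_generic hij (h ▸ (F.mem_D i j z).2 hj))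
        obtain ⟨X₁, g₁, G, hg₁, hJ₁, hfit₁, hle, -, htri⟩ := next_ x hd hxz
        have h1 := htri h0 hxt
        exact ihk (G.triples.ncard) (lt_of_lt_of_le h1 hk) X₁ g₁ (n + 1) G hg₁ hJ₁ hfit₁ (hle.trans hm) le_rfl
      · rw [F.tang_eq_zero_iff] at h0
        push Not at h0
        obtain ⟨i, j, hij, z, hz⟩ := h0
        have h2 : 2 ≤ PtBlowLib.colen (F.D i j) z := Order.add_one_le_of_lt hz
        have hj : (F.C i).c z ∈ Set.range (F.C j).c := (F.mem_D i j z).1 ((SDivLib.mem_support_iff_stalk _ z).2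
          fun htop => by
            rw [PtBlowLib.colen, Module.length_eq_zero_iff.2 (Ideal.Quotient.subsingleton_iff.2 htop)] at hz
            simp at hz)
        have hd : ringKrullDim (X'.presheaf.stalk ((F.C i).c z)) = 2 :=
          dim_two_of_curve hg.surf (F.C i).c (F.good i).2 z
            (fun h => F.not_generic hij (h ▸ (F.mem_D i j z).2 hj))
        obtain ⟨X₁, g₁, G, hg₁, hJ₁, hfit₁, -, hlt, -⟩ := next_ _ hd (Set.mem_iUnion.2 ⟨i, z, rfl⟩)
        have h1 := hlt ⟨i, j, hij, z, rfl, h2⟩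
        exact ihm (G.tang) (lt_of_lt_of_le h1 hm) (G.triples.ncard) X₁ g₁ (n + 1) G hg₁ hJ₁ hfit₁ le_rfl le_rfl

end SncLib
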