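import Mathlib
import Groth.Agent.SncLib.Loop
import Groth.Agent.CurveResLib.Family
import Groth.Agent.CurveResLib.Induct

/-! The stages of the embedded resolution. -/

set_option autoImplicit false
set_option linter.style.haveILetI false
set_option linter.unusedSectionVars false
set_option maxHeartbeats 1000000
set_option backward.isDefEq.respectTransparency false
set_option backward.isDefEq.respectTransparency.types false
universe u

open CategoryTheory CategoryTheory.Limits AlgebraicGeometry TopologicalSpace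

namespace SncLib

theorem radical_eq_maximal {X : Scheme.{u}} (J : X.IdealSheafData) {w : X} (hw : w ∈ (J.support : Set X))
    (hmax : ∀ y ∈ (J.support : Set X), y ⤳ w → y = w) :
    (IntMult.stalkIdeal J w).radical = IsLocalRing.maximalIdeal (X.presheaf.stalk w) := by
  refine le_antisymm ((IsLocalRing.maximalIdeal.isMaximal _).isPrime.radical_le_iff.2
    (IsLocalRing.le_maximalIdeal ((SDivLib.mem_support_iff_stalk J w).1 hw))) ?_
  rw [Ideal.radical_eq_sInf]
  refine le_sInf fun q hq => ?_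
  obtain ⟨hJq, hqp⟩ := hq
  have hmem : (⟨q, hqp⟩ : PrimeSpectrum (X.presheaf.stalk w)) ∈
      ((J.comap (X.fromSpecStalk w)).support : Set (Spec (X.presheaf.stalk w))) := by
    rw [PtBlowLib.comap_fromSpecStalk, PtBlowLib.coe_support_idealSheaf]
    exact hJq
  rw [Scheme.IdealSheafData.support_comap] at hmem
  have h2 := hmax _ hmem (by
    show X.fromSpecStalk w ⟨q, hqp⟩ ∈ {y | y ⤳ w}
    rw [← Scheme.range_fromSpecStalk]
    exact ⟨_, rfl⟩)
  have h3 : (⟨q, hqp⟩ : PrimeSpectrum (X.presheaf.stalk w)) = IsLocalRing.closedPoint (X.presheaf.stalk w) :=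
    (X.fromSpecStalk w).isEmbedding.injective (h2.trans Scheme.fromSpecStalk_closedPoint.symm)
  exact le_of_eq (congrArg PrimeSpectrum.asIdeal h3).symm

theorem dim_le_one_of_maximal {X : Scheme.{u}} [IsLocallyNoetherian X] {J : X.IdealSheafData}
    (hJ : BlowUp.IsEffCartierIdeal J) {w : X} (hw : w ∈ (J.support : Set X))
    (hmax : ∀ y ∈ (J.support : Set X), y ⤳ w → y = w) : ringKrullDim (X.presheaf.stalk w) ≤ 1 := by
  obtain ⟨f, -, hf⟩ := SDivLib.exists_gen hJ w
  have h1 := radical_eq_maximal J hw hmax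
  rw [hf] at h1
  have hmin : IsLocalRing.maximalIdeal (X.presheaf.stalk w) ∈ (Ideal.span {f}).minimalPrimes := by
    refine ⟨⟨inferInstance, ?_⟩, fun q hq _ => ?_⟩
    · rw [← h1]; exact Ideal.le_radical
    · rw [← h1]
      exact hq.1.radical_le_iff.2 hq.2
  haveI : (Ideal.span {f} : Ideal (X.presheaf.stalk w)).IsPrincipal := ⟨⟨f, rfl⟩⟩
  have h2 := Ideal.height_le_one_of_isPrincipal_of_mem_minimalPrimes (Ideal.span {f}) _ hmin
  rw [← IsLocalRing.maximalIdeal_height_eq_ringKrullDim]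
  exact WithBot.coe_le_coe.2 h2

theorem two_le_of_one_lt {d : WithBot ℕ∞} (h : 1 < d) : ((2 : ℕ) : WithBot ℕ∞) ≤ d := by
  cases d with
  | bot => simp at h
  | coe a =>
    have h' : (1 : ℕ∞) < a := WithBot.coe_lt_coe.1 h
    refine WithBot.coe_le_coe.2 ?_
    have := Order.add_one_le_of_lt h'
    rwa [one_add_one_eq_two] at this

theorem generic_not_mem {X : Scheme.{u}} [IsIntegral X] {I : X.IdealSheafData} (hI : I ≠ ⊥) :
    genericPoint X ∉ (I.support : Set X) := fun h => hI <| Scheme.IdealSheafData.support_eq_top_iff.1 <|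
  top_le_iff.1 fun z _ => (genericPoint_specializes z).mem_closed I.support.isClosed h

/-- A set covered by the preimages of a step. -/
def Exc {X' X : Scheme.{u}} (g : X' ⟶ X) : Prop :=
  ∃ P : Set X, Covered (g ⁻¹' P) ∧ Set.InjOn g (g ⁻¹' Pᶜ)

theorem exc_id (X : Scheme.{u}) : Exc (𝟙 X) :=
  ⟨∅, ⟨0, Fin.elim0, ∅, fun i => i.elim0, Set.finite_empty, by simp, by simp⟩, fun a _ b _ h => h⟩

theorem exc_step {X' X X₁ : Scheme.{u}} [IsIntegral X'] {g : X' ⟶ X} (hX : Surf X') (hg : Exc g) (x : X')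
    (hx : IsClosed ({x} : Set X')) (hd : ringKrullDim (X'.presheaf.stalk x) = 2) (b : X₁ ⟶ X')
    (hb : BlowUp.IsBlowUp b (Scheme.IdealSheafData.vanishingIdeal ⟨{x}, hx⟩)) : Exc (b ≫ g) := by
  obtain ⟨P, hP, hinj⟩ := hg
  have hcov : Covered (g ⁻¹' (P ∪ {g x})) := by
    obtain ⟨n, C, T, hC, hT, hTc, hS⟩ := hP
    refine ⟨n, C, T ∪ {x}, hC, hT.union (Set.finite_singleton x), ?_, ?_⟩
    · rintro t (ht | rfl)
      · exact hTc t ht
      · exact hx
    · intro w hw
      by_cases hwP : g w ∈ P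
      · rcases hS hwP with h | h
        · exact Or.inl h
        · exact Or.inr (Or.inl h)
      · have hwx : g w = g x := hw.resolve_left hwP
        have hgxP : g x ∉ P := hwx ▸ hwP
        exact Or.inr (Or.inr (hinj hwP hgxP hwx))
  obtain ⟨-, -, -, -, h1⟩ := covered_step hX hcov x hx hd b hb
  haveI := hX.noeth
  haveI := PtBlowLib.isIso_punct hx b hb
  refine ⟨P ∪ {g x}, h1, fun a ha a' ha' h => ?_⟩
  have hax : b a ≠ x := fun e => ha (Or.inr (congrArg g e))
  have hax' : b a' ≠ x := fun e => ha' (Or.inr (congrArg g e))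
  exact PtBlowLib.injOn_of_isIso b (PtBlowLib.punct hx) hax hax'
    (hinj (fun e => ha (Or.inl e)) (fun e => ha' (Or.inl e)) h)

section Curves

open CurveResLib

variable {X : Scheme.{u}} [IsIntegral X] {n : ℕ} {Y : Fin n → Scheme.{u}} (ι : ∀ i, Y i ⟶ X) {W : Fin n → Scheme.{u}}
  (ν : ∀ i, W i ⟶ Y i) (V : ∀ i, (Y i).Opens) [∀ i, IsIntegral (Y i)] [∀ i, IsNoetherian (Y i)]
  [∀ i, IsIntegral (W i)] [∀ i, IsFinite (ν i)] [∀ i, IsIso (ν i ∣_ V i)]
  (hV : ∀ i, (V i : Set (Y i)).Nonempty) (hd : ∀ i, topologicalKrullDim (Y i) = 1)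
  (hreg : ∀ i (w : W i), IsRegularLocalRing ((W i).presheaf.stalk w))

include hV hd hreg in
theorem regularise (hne : ∀ i, ι i (genericPoint (Y i)) ≠ genericPoint X) (hX : Surf X)
    (F₀ : CurveResLib.Fam ι W ν V (𝟙 X)) :
    ∃ (X' : Scheme.{u}) (g : X' ⟶ X) (F : CurveResLib.Fam ι W ν V g), Stage g ∧ Exc g ∧
      ∀ i (z : F.Z i), IsRegularLocalRing ((F.Z i).presheaf.stalk z) := by
  classical
  have hcov : ∀ i, ∃ S : Finset (Y i).affineOpens, ∀ y : Y i, ∃ U ∈ S, y ∈ (U : (Y i).Opens) := fun i => by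
    obtain ⟨S, hS⟩ := (isCompact_univ : IsCompact (Set.univ : Set (Y i))).elim_finite_subcover
      (fun U : (Y i).affineOpens => (U.1 : Set (Y i))) (fun U => U.1.2)
      (fun y _ => Set.mem_iUnion.2 (by
        obtain ⟨U, hU, hy, -⟩ := exists_isAffineOpen_mem_and_subset (x := y) (U := ⊤) trivial
        exact ⟨⟨U, hU⟩, hy⟩))
    exact ⟨S, fun y => by obtain ⟨U, hU, hy⟩ := Set.mem_iUnion₂.1 (hS (Set.mem_univ y)); exact ⟨U, hU, hy⟩⟩
  choose S hS using hcov
  let α : (Σ i, {U // U ∈ S i}) → Type u := fun q => Sub (ν q.1) q.2.1.1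
  haveI : ∀ q, WellFoundedGT (α q) := fun q => wf_sub (ν q.1) q.2.1
  haveI hwf : WellFoundedGT (∀ q, α q) := ⟨(Pi.wellFoundedLT (α := fun q => (α q)ᵒᵈ)).wf⟩
  suffices h : ∀ (m : ∀ q, α q) (X' : Scheme.{u}) (g : X' ⟶ X) (F : CurveResLib.Fam ι W ν V g),
      Stage g → Exc g → (fun q => (meas (ν q.1) (V q.1) (F.st q.1) q.2.1.1 : α q)) = m →
      ∃ (X' : Scheme.{u}) (g : X' ⟶ X) (F : CurveResLib.Fam ι W ν V g), Stage g ∧ Exc g ∧
        ∀ i (z : F.Z i), IsRegularLocalRing ((F.Z i).presheaf.stalk z) from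
    h _ X (𝟙 X) F₀ (stage_id hX) (exc_id X) rfl
  intro m
  induction m using WellFoundedGT.induction with
  | _ m ih =>
    intro X' g F hg hexc hm
    by_cases hr : ∀ i (z : F.Z i), IsRegularLocalRing ((F.Z i).presheaf.stalk z)
    · exact ⟨X', g, F, hg, hexc, hr⟩
    push Not at hr
    obtain ⟨i₀, p, hns⟩ := hr
    haveI := hg.surf.integral
    haveI := hg.surf.noeth
    haveI := F.closed i₀; haveI := (F.st i₀).integral; haveI := (F.st i₀).finite; haveI := (F.st i₀).iso
    obtain ⟨hp, -⟩ := (F.st i₀).step (ν i₀) (V i₀) (hV i₀) (hd i₀).le (hreg i₀) p hns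
    have hx : IsClosed ({F.c i₀ p} : Set X') := by
      rw [← Set.image_singleton]
      exact (F.c i₀).isClosedEmbedding.isClosedMap _ hp
    have hd2 : ringKrullDim (X'.presheaf.stalk (F.c i₀ p)) = 2 := by
      refine dim_two_of_curve hg.surf (F.c i₀) (fun h => hne i₀ ?_) p
        (fun h => CurveResLib.generic_not_closed (F.π i₀) (V i₀) (hV i₀) (hd i₀) (h ▸ hp))
      rw [← hg.gen, ← h, ← Scheme.Hom.comp_apply, F.fac, Scheme.Hom.comp_apply,
        ModifLib.map_genericPoint (F.π i₀) (hV i₀)]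
    haveI := hg.surf.regular (F.c i₀ p)
    obtain ⟨X₁, b, hb, G, β, hπ, hc, hl, hf, hni⟩ := F.blow ι ν V hV hd hreg _ hx
    obtain ⟨hi₁, hX₁, hgen⟩ := hg.surf.blow hx hd2 b hb
    haveI := hi₁
    refine ih _ ?_ X₁ _ G (hg.comp hX₁ (fun r hr => PtBlowLib.contractionSeq_comp hx b hb hd2 r hr) fun {_} => hgen)
      (exc_step hg.surf hexc _ hx hd2 b hb) rfl
    subst hm
    have hle : ∀ i (U : (Y i).Opens), meas (ν i) (V i) (F.st i) U ≤ meas (ν i) (V i) (G.st i) U := by
      intro i U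
      rintro _ ⟨a, rfl⟩
      have e : (G.π i) ⁻¹ᵁ U ≤ β i ⁻¹ᵁ F.π i ⁻¹ᵁ U := by rw [← Scheme.Hom.comp_preimage, hπ]
      refine ⟨((β i).appLE _ _ e).hom a, ?_⟩
      have h' : (β i).appLE _ _ e ≫ (G.st i).lift.appLE ((G.π i) ⁻¹ᵁ U) (ν i ⁻¹ᵁ U) (le_of_fac (ν i) (V i) (G.st i) U) =
          (F.st i).lift.appLE (F.π i ⁻¹ᵁ U) (ν i ⁻¹ᵁ U) (le_of_fac (ν i) (V i) (F.st i) U) := by
        simp only [Scheme.Hom.appLE_comp_appLE, hl]
      exact congrArg (fun φ => φ.hom a) h'
    refine lt_of_le_of_ne (fun q => hle _ _) fun heq => ?_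
    haveI := hf i₀
    have hs : ∃ s' : St (ν i₀) (V i₀) (β i₀ ≫ F.π i₀), s'.lift ≫ β i₀ = (F.st i₀).lift ∧
        ∀ U, meas (ν i₀) (V i₀) s' U = meas (ν i₀) (V i₀) (G.st i₀) U := by
      have h2 : ∀ (ρ : G.Z i₀ ⟶ Y i₀) (s : St (ν i₀) (V i₀) ρ), ρ = β i₀ ≫ F.π i₀ →
          ∃ s' : St (ν i₀) (V i₀) (β i₀ ≫ F.π i₀), s'.lift = s.lift ∧
            ∀ U, meas (ν i₀) (V i₀) s' U = meas (ν i₀) (V i₀) s U := by
        rintro ρ s rfl
        exact ⟨s, rfl, fun U => rfl⟩
      obtain ⟨s', h3, h4⟩ := h2 _ (G.st i₀) (hπ i₀).symm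
      exact ⟨s', by rw [h3, hl], h4⟩
    obtain ⟨s', hs', hmeq⟩ := hs
    have hlt := meas_lt (ν i₀) (V i₀) (F.st i₀) (β i₀) s' (hV i₀) hs' (hni i₀ p rfl hns)
      (fun U : {U // U ∈ S i₀} => U.1) (top_le_iff.1 fun y _ => by
        obtain ⟨U, hU, hy⟩ := hS i₀ y
        exact Opens.mem_iSup.2 ⟨⟨U, hU⟩, hy⟩)
    refine hlt.ne (funext fun U => ?_)
    rw [hmeq]
    exact congrFun heq ⟨i₀, U⟩

include hV hd hreg in
theorem covered_preimage (hne : ∀ i, ι i (genericPoint (Y i)) ≠ genericPoint X) (hX : Surf X)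
    (F₀ : CurveResLib.Fam ι W ν V (𝟙 X)) (T₀ : Set X) (hT : T₀.Finite) (hTc : ∀ t ∈ T₀, IsClosed ({t} : Set X)) :
    ∃ (X' : Scheme.{u}) (g : X' ⟶ X), Stage g ∧ Covered (g ⁻¹' ((⋃ i, Set.range (ι i)) ∪ T₀)) := by
  classical
  obtain ⟨X', g, F, hg, ⟨P, ⟨m, C, T, hC, hTf, hTc', hS⟩, hinj⟩, hR⟩ := regularise ι ν V hV hd hreg hne hX F₀
  haveI := hg.surf.integral
  haveI := hg.surf.noeth
  haveI := F.closed
  haveI := fun i => (F.st i).integral
  haveI := fun i => (F.st i).finite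
  haveI := fun i => (F.st i).iso
  have hgp : ∀ i, F.π i (genericPoint (F.Z i)) = genericPoint (Y i) := fun i =>
    ModifLib.map_genericPoint (F.π i) (hV i)
  let cv : Fin n → Cv X' := fun i =>
    ⟨F.Z i, F.c i, inferInstance, inferInstance, hR i, (F.st i).dim_le (ν i) (V i) (hV i) (hd i).le⟩
  have hgood : ∀ i, (cv i).Good := fun i => ⟨fun h => CurveResLib.generic_not_closed (F.π i) (V i) (hV i) (hd i) (by
      rw [← (F.c i).isClosedEmbedding.injective.preimage_image {genericPoint (F.Z i)}, Set.image_singleton]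
      exact h.preimage (F.c i).continuous), fun {_} h => hne i (by
      rw [← hg.gen, ← h, ← hgp i, ← Scheme.Hom.comp_apply]
      exact (congrArg (fun m : F.Z i ⟶ X => m (genericPoint (F.Z i))) (F.fac i)).symm)⟩
  refine ⟨X', g, hg, m + n, Fin.append C cv, T ∪ {w | g w ∈ T₀ ∧ g w ∉ P}, fun i => ?_, ?_, ?_, fun w hw => ?_⟩
  · induction i using Fin.addCases with
    | left i => rw [Fin.append_left]; exact hC i
    | right i => rw [Fin.append_right]; exact hgood i
  · exact hTf.union (Set.Finite.of_finite_image (f := g) (hT.subset (by rintro _ ⟨w, hw, rfl⟩; exact hw.1))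
      (hinj.mono fun w hw => hw.2))
  · rintro t (ht | ⟨ht, htP⟩)
    · exact hTc' t ht
    · rw [show ({t} : Set X') = g ⁻¹' {g t} from Set.ext fun v => ⟨fun h => by rw [Set.mem_singleton_iff.1 h]; rfl,
        fun h => hinj (show g v ∉ P from fun hv => htP (by rwa [← Set.mem_singleton_iff.1 h])) htP h⟩]
      exact (hTc _ ht).preimage g.continuous
  · by_cases hwP : g w ∈ P
    · rcases hS hwP with h | h
      · obtain ⟨i, hi⟩ := Set.mem_iUnion.1 h
        refine Or.inl (Set.mem_iUnion.2 ⟨Fin.castAdd n i, ?_⟩)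
        rw [congrArg (fun A : Cv X' => Set.range A.c) (Fin.append_left C cv i)]
        exact hi
      · exact Or.inr (Or.inl h)
    · rcases hw with h | h
      · obtain ⟨i, y, hy⟩ := Set.mem_iUnion.1 h
        have hsurj : y ∈ Set.range (F.π i) := by
          have h1 : IsClosed (Set.range (F.π i)) := (F.π i).isClosedMap.isClosed_range
          exact (genericPoint_specializes y).mem_closed h1 ⟨_, hgp i⟩
        obtain ⟨z, rfl⟩ := hsurj
        refine Or.inl (Set.mem_iUnion.2 ⟨Fin.natAdd m i, ?_⟩)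
        rw [congrArg (fun A : Cv X' => Set.range A.c) (Fin.append_right C cv i)]
        have h2 : g (F.c i z) = g w :=
          (congrArg (fun m : F.Z i ⟶ X => m z) (F.fac i)).trans hy
        exact ⟨z, hinj (show g (F.c i z) ∉ P by rw [h2]; exact hwP) hwP h2⟩
      · exact Or.inr (Or.inr ⟨h, hwP⟩)

end Curves

/-- Choosing distinct curves. -/
theorem exists_fam {X : Scheme.{u}} [IsIntegral X] (hX : Surf X) {J : X.IdealSheafData}
    (hJ : BlowUp.IsEffCartierIdeal J) (hcov : Covered (J.support : Set X)) :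
    ∃ (n : ℕ) (F : Fam X n), F.Fits J := by
  classical
  haveI := hX.noeth
  obtain ⟨m, C, T, hC, hT, hTc, hS⟩ := hcov
  let s : Finset X := (Finset.univ.filter fun i => (C i).η ∈ (J.support : Set X)).image fun i => (C i).η
  have hs : ∀ e : {e // e ∈ s}, ∃ i, (C i).η = e.1 := fun e => by
    obtain ⟨i, -, hi⟩ := Finset.mem_image.1 e.2
    exact ⟨i, hi⟩
  choose idx hidx using hs
  let F : Fam X s.card :=
    { C := fun k => C (idx (s.equivFin.symm k))
      good := fun k => hC _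
      inj := fun a b h => s.equivFin.symm.injective (Subtype.ext ((hidx _).symm.trans (Eq.trans h (hidx _)))) }
  have hsub : F.union ⊆ (J.support : Set X) := by
    rintro w hw
    obtain ⟨k, hk⟩ := Set.mem_iUnion.1 hw
    rw [Cv.range_eq] at hk
    refine closure_minimal (Set.singleton_subset_iff.2 ?_) J.support.isClosed hk
    obtain ⟨i, hi, he⟩ := Finset.mem_image.1 (s.equivFin.symm k).2
    show (C _).η ∈ _
    rw [hidx, ← he]
    exact (Finset.mem_filter.1 hi).2
  refine ⟨s.card, F, hsub, fun w hw hwu => ?_⟩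
  obtain ⟨S, hSf, hScl, hSir, hSeq⟩ := NoetherianSpace.exists_finite_set_isClosed_irreducible J.support.isClosed
  -- a maximal generalisation
  obtain ⟨η, hηJ, hηw, hmax⟩ : ∃ η ∈ (J.support : Set X), η ⤳ w ∧ ∀ y ∈ (J.support : Set X), y ⤳ η → y = η := by
    let T' := {t ∈ S | w ∈ t}
    obtain ⟨t₀, ht₀, hwt₀⟩ : w ∈ ⋃₀ S := hSeq ▸ hw
    obtain ⟨t, ⟨ht, hwt⟩, htmax⟩ := Set.Finite.exists_maximal (s := T') (hSf.subset fun a ha => ha.1) ⟨t₀, ht₀, hwt₀⟩
    obtain ⟨η, hη⟩ := QuasiSober.sober (hSir t ht) (hScl t ht)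
    refine ⟨η, hSeq ▸ ⟨t, ht, hη.mem⟩, hη.specializes hwt, fun y hy hyη => ?_⟩
    obtain ⟨t', ht', hyt'⟩ : y ∈ ⋃₀ S := hSeq ▸ hy
    have hsub' : t ⊆ t' := fun a ha => (hη.specializes ha).mem_closed (hScl t' ht') (hyη.mem_closed (hScl t' ht') hyt')
    have hle : t' ⊆ t := htmax ⟨ht', hsub' hwt⟩ hsub'
    exact ((hη.specializes (hle hyt')).antisymm hyη).eq.symm
  have hdim := dim_le_one_of_maximal hJ hηJ hmax
  have hηu : η ∉ F.union := fun h => hwu (by
    obtain ⟨k, hk⟩ := Set.mem_iUnion.1 h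
    exact Set.mem_iUnion.2 ⟨k, hηw.mem_closed (F.C k).c.isClosedEmbedding.isClosed_range hk⟩)
  have hηc : IsClosed ({η} : Set X) := by
    rcases hS hηJ with h | h
    · exfalso
      obtain ⟨i, z, hz⟩ := Set.mem_iUnion.1 h
      by_cases hzη : z = genericPoint (C i).Z
      · subst hzη
        have hmem : η ∈ s := Finset.mem_image.2 ⟨i, Finset.mem_filter.2 ⟨Finset.mem_univ _, by rw [Cv.η, hz]; exact hηJ⟩, hz⟩
        refine hηu (Set.mem_iUnion.2 ⟨s.equivFin ⟨η, hmem⟩, genericPoint _, ?_⟩)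
        show (C (idx (s.equivFin.symm (s.equivFin ⟨η, hmem⟩)))).η = η
        rw [hidx, Equiv.symm_apply_apply]
      · have h2 := dim_two_of_curve hX (C i).c (hC i).2 z hzη
        rw [hz] at h2
        rw [h2] at hdim
        exact absurd hdim (by decide)
    · exact hTc η h
  have hwη : w = η := Set.mem_singleton_iff.1 (hηw.mem_closed hηc rfl)
  subst hwη
  exact ⟨hηc, fun h => absurd (h ▸ hdim) (by decide)⟩

/-- The isolated points of the support. -/
theorem local_point {X : Scheme.{u}} [IsIntegral X] (hX : Surf X) {J : X.IdealSheafData}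
    (hJ : BlowUp.IsEffCartierIdeal J) {p : X} (hp : p ∈ (J.support : Set X)) (hgen : genericPoint X ∉ (J.support : Set X))
    (hd : ringKrullDim (X.presheaf.stalk p) ≠ 2) :
    ∃ (d r : ℕ) (x : Fin d → X.presheaf.stalk p),
      1 ≤ r ∧ r ≤ d ∧ ringKrullDim (X.presheaf.stalk p) = (d : WithBot ℕ∞) ∧
      Ideal.span (Set.range x) = IsLocalRing.maximalIdeal (X.presheaf.stalk p) ∧
      (IntMult.stalkIdeal J p).radical = Ideal.span {∏ i : Fin d, if (i : ℕ) < r then x i else 1} := by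
  haveI := hX.noeth
  haveI := hX.regular p
  have hlt : ∀ q : X, q ∈ (J.support : Set X) → q < genericPoint X := fun q hq =>
    lt_of_le_not_ge (genericPoint_specializes q) fun h =>
      hgen (((Specializes.antisymm h (genericPoint_specializes q)).eq) ▸ hq)
  have h2 : Order.coheight p < 2 := by
    have h := (DimIneqLib.stalk_dim_le_dim p).trans hX.dim
    rw [ringKrullDim_stalk_eq_coheight] at h hd
    exact lt_of_le_of_ne (WithBot.coe_le_coe.1 h) fun e => hd (by rw [e]; rfl)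
  have h1 : Order.coheight p = 1 := by
    refine le_antisymm (Order.le_of_lt_succ (by rwa [Order.succ_eq_add_one, one_add_one_eq_two])) ?_
    exact le_trans (le_add_self) (Order.coheight_add_one_le (hlt p hp))
  have hd1 : ringKrullDim (X.presheaf.stalk p) = 1 := by rw [ringKrullDim_stalk_eq_coheight, h1]; rfl
  have hmax : ∀ y ∈ (J.support : Set X), y ⤳ p → y = p := fun y hy hyp => by
    by_contra hne
    have h3 : p < y := lt_of_le_not_ge hyp fun h => hne (hyp.antisymm h).eq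
    have h4 := Order.coheight_add_one_le h3
    have h5 := Order.coheight_add_one_le (hlt y hy)
    rw [h1] at h4
    have h6 : (1 : ℕ∞) + 1 ≤ 1 := (add_le_add ((le_add_self).trans h5) le_rfl).trans h4
    exact absurd h6 (by decide)
  have hfr := IsRegularLocalRing.spanFinrank_maximalIdeal (R := X.presheaf.stalk p)
  rw [hd1] at hfr
  have hfr1 : (IsLocalRing.maximalIdeal (X.presheaf.stalk p)).spanFinrank = 1 := by exact_mod_cast hfr
  obtain ⟨x, hx⟩ : ∃ x, IsLocalRing.maximalIdeal (X.presheaf.stalk p) = Ideal.span {x} := by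
    have hfg : (IsLocalRing.maximalIdeal (X.presheaf.stalk p)).FG := IsNoetherian.noetherian _
    have hc := Submodule.FG.generators_ncard hfg
    rw [hfr1, Set.ncard_eq_one] at hc
    obtain ⟨x, hx⟩ := hc
    exact ⟨x, by rw [← hx]; exact (Submodule.span_generators _).symm⟩
  refine ⟨1, 1, ![x], le_rfl, le_rfl, hd1, ?_, ?_⟩
  · simp [hx]
  · rw [radical_eq_maximal J hp hmax, hx]
    simp

/-- The embedded resolution of a closed subscheme of a surface. -/
theorem resolution {X : Scheme.{u}} [IsIntegral X] [IsNoetherian X]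
    (hreg : ∀ x : X, IsRegularLocalRing (X.presheaf.stalk x)) (hdim : topologicalKrullDim X ≤ 2)
    (I : X.IdealSheafData) (hI : I ≠ ⊥) {n : ℕ} (J : Fin n → X.IdealSheafData) [∀ i, IsIntegral (J i).subscheme]
    [∀ i, QuasiCompact ((J i).subscheme.fromSpecStalk (genericPoint ↥(J i).subscheme))]
    [∀ i, QuasiSeparated ((J i).subscheme.fromSpecStalk (genericPoint ↥(J i).subscheme))]
    (hJd : ∀ i, topologicalKrullDim ↥(J i).subscheme = 1)
    (hJI : ∀ i, ((J i).support : Set X) ⊆ I.support)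
    (hfin : ∀ i, IsFinite (Curv2.normalizationι (J i).subscheme))
    (T₀ : Set X) (hT : T₀.Finite) (hTc : ∀ t ∈ T₀, IsClosed ({t} : Set X))
    (hcov : (I.support : Set X) ⊆ (⋃ i, ((J i).support : Set X)) ∪ T₀) :
    ∃ (X' : Scheme.{u}) (g : X' ⟶ X), CSeq g ∧ BlowUp.IsEffCartierIdeal (I.comap g) ∧
      ∀ p : X', p ∈ ((I.comap g).support : Set X') →
        ∃ (d r : ℕ) (x : Fin d → X'.presheaf.stalk p),
          1 ≤ r ∧ r ≤ d ∧ ringKrullDim (X'.presheaf.stalk p) = (d : WithBot ℕ∞) ∧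
          Ideal.span (Set.range x) = IsLocalRing.maximalIdeal (X'.presheaf.stalk p) ∧
          (IntMult.stalkIdeal (I.comap g) p).radical = Ideal.span {∏ i : Fin d, if (i : ℕ) < r then x i else 1} := by
  classical
  have hX : Surf X := ⟨inferInstance, inferInstance, hreg, hdim⟩
  have hgenI := generic_not_mem hI
  haveI : ∀ i, IsFinite (Curv2.normalizationι (J i).subscheme) := hfin
  haveI hWint : ∀ i, IsIntegral (Curv2.normalization (J i).subscheme) := fun i =>
    (Groth.Agent.S2351.result (J i).subscheme).choose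
  have hYn : ∀ i, IsNoetherian (J i).subscheme := fun i => {
    toIsLocallyNoetherian := LocallyOfFiniteType.isLocallyNoetherian (J i).subschemeι
    toCompactSpace := QuasiCompact.compactSpace_of_compactSpace (J i).subschemeι }
  haveI := hYn
  choose V hV hVi using fun i => NormBlowLib.exists_normalization_open (J i).subscheme
  haveI := hVi
  have hWreg : ∀ i (w : ↥(Curv2.normalization (J i).subscheme)),
      IsRegularLocalRing ((Curv2.normalization (J i).subscheme).presheaf.stalk w) := fun i w => by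
    obtain ⟨_, hWn, -⟩ := Groth.Agent.S2351.result (J i).subscheme
    haveI : IsLocallyNoetherian (Curv2.normalization (J i).subscheme) :=
      LocallyOfFiniteType.isLocallyNoetherian (Curv2.normalizationι (J i).subscheme)
    exact Groth.Agent.S9800.result _ hWn (ModifLib.dim_source_le (Curv2.normalizationι (J i).subscheme) (hV i) 1
      fun y => (DimIneqLib.stalk_dim_le_dim y).trans (hJd i).le) w
  have hne : ∀ i, (J i).subschemeι (genericPoint ↥(J i).subscheme) ≠ genericPoint X := fun i h => hgenI (h ▸ hJI i (by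
    rw [← Scheme.IdealSheafData.range_subschemeι]
    exact ⟨_, rfl⟩))
  obtain ⟨X₁, g₁, hg₁, hcov₁⟩ := covered_preimage (fun i => (J i).subschemeι)
    (fun i => Curv2.normalizationι (J i).subscheme) V hV hJd hWreg hne hX
    { seq := Resolve.IsPtBlowupSeq.iso (Iso.refl X)
      noeth := inferInstance
      Z := fun i => (J i).subscheme
      π := fun i => 𝟙 _
      st := fun i => ⟨Curv2.normalizationι (J i).subscheme, Category.comp_id _, inferInstance, inferInstance, inferInstance⟩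
      c := fun i => (J i).subschemeι
      closed := fun i => inferInstance
      fac := fun i => by simp } T₀ hT hTc
  haveI := hg₁.surf.integral
  haveI := hg₁.surf.noeth
  have hcov₁' : Covered (g₁ ⁻¹' (I.support : Set X)) := by
    obtain ⟨m, C, T, hC, hTf, hTc', hS⟩ := hcov₁
    refine ⟨m, C, T, hC, hTf, hTc', fun w hw => hS ?_⟩
    rcases hcov hw with h | h
    · obtain ⟨i, hi⟩ := Set.mem_iUnion.1 h
      refine Or.inl (Set.mem_iUnion.2 ⟨i, ?_⟩)
      rwa [Scheme.IdealSheafData.range_subschemeι]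
    · exact Or.inr h
  -- principalisation
  have hgen₁ : genericPoint X₁ ∉ ((I.comap g₁).support : Set X₁) := by
    rw [Scheme.IdealSheafData.support_comap]
    show g₁ (genericPoint X₁) ∉ (I.support : Set X)
    rw [hg₁.gen]; exact hgenI
  obtain ⟨I', D, hD, hID, hf, hI'⟩ := PtBlowLib.exists_divisorial_part hg₁.surf.regular hg₁.surf.dim (I.comap g₁) hgen₁
  have hRT : ∀ x ∈ (I'.support : Set X₁), PtBlowLib.RegTwo X₁ x := fun x hx =>
    ⟨(hI' x hx).1, hg₁.surf.regular x, (hI' x hx).2⟩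
  have hne_top : ∀ y ∈ hf.toFinset, PtBlowLib.colen I' y ≠ ⊤ := fun y hy =>
    PtBlowLib.colen_ne_top I' y fun z hz hzy => (Set.mem_singleton_iff.1 (hzy.mem_closed (hI' z hz).1 rfl)).symm
  obtain ⟨m, hm⟩ := ENat.ne_top_iff_exists.1 (ENat.sum_ne_top.2 hne_top)
  obtain ⟨X₂, b, hg₂, hcov₂, hcar, hD₂⟩ :=
    principalize_covered (I.support : Set X) m X₁ g₁ hg₁ hcov₁' I' hf hRT hm.ge
  haveI := hg₂.surf.integral
  haveI := hg₂.surf.noeth
  have hJ₂ : BlowUp.IsEffCartierIdeal (I.comap (b ≫ g₁)) := by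
    rw [Scheme.IdealSheafData.comap_comp, hID, BlowUpLib.comap_mul]
    exact AlgSpRegLib.isEffCartier_mul hcar (hD₂ _ hD)
  have hsupp : ((I.comap (b ≫ g₁)).support : Set X₂) = (b ≫ g₁) ⁻¹' (I.support : Set X) := by
    rw [Scheme.IdealSheafData.support_comap]; rfl
  obtain ⟨k, F, hFit⟩ := exists_fam hg₂.surf hJ₂ (hsupp ▸ hcov₂)
  obtain ⟨X', g', k', G, hg', hJ', hfit', h0, ht⟩ :=
    exists_normal_crossings I F.tang F.triples.ncard X₂ _ k F hg₂ hJ₂ hFit le_rfl le_rfl
  haveI := hg'.surf.integral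
  haveI := hg'.surf.noeth
  refine ⟨X', g', hg'.seq, hJ', fun p hp => ?_⟩
  by_cases hpu : p ∈ G.union
  · refine G.local_snc hg'.surf h0 ht _ p hpu hfit'.1 fun w hw hwp => ?_
    by_contra hwu
    exact hwu (Set.mem_singleton_iff.1 (hwp.mem_closed (hfit'.2 w hw hwu).1 rfl) ▸ hpu)
  · refine local_point hg'.surf hJ' hp ?_ (hfit'.2 p hp hpu).2
    rw [Scheme.IdealSheafData.support_comap]
    show g' (genericPoint X') ∉ (I.support : Set X)
    rw [hg'.gen]; exact hgenI

end SncLib
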